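import Mathlib.GroupTheory.Transfer

/-!
Two computations of the transfer.
-/

set_option autoImplicit false

namespace CfsgLib.CentralLift

open MulAction Subgroup Subgroup.leftTransversals

variable {G : Type*} [Group G] {H : Subgroup G} [FiniteIndex H] {A : Type*} [CommGroup A]
  (χ : H →* A)

/-- An element all whose conjugates lie in `H` with the same value transfers to a power. -/
theorem transfer_eq_pow_index {k : G} (hk : k ∈ H)
    (hc : ∀ g : G, ∃ hg : g⁻¹ * k * g ∈ H, χ ⟨g⁻¹ * k * g, hg⟩ = χ ⟨k, hk⟩) :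
    MonoidHom.transfer χ k = χ ⟨k, hk⟩ ^ H.index := by
  classical
  let T : H.LeftTransversal := default
  rw [MonoidHom.transfer_def χ T]
  let α := T.2.leftQuotientEquiv
  have hfix : ∀ q : G ⧸ H, k⁻¹ • q = q := by
    intro q
    refine QuotientGroup.induction_on q fun g => ?_
    refine (QuotientGroup.eq).2 ?_
    obtain ⟨hg, -⟩ := hc g
    have e : (k⁻¹ * g)⁻¹ * g = g⁻¹ * k * g := by group
    show (k⁻¹ * g)⁻¹ * g ∈ H
    rw [e]
    exact hg
  have hterm : ∀ q : G ⧸ H,
      (((k • T).2.leftQuotientEquiv q : _) : G) = k * (α q : G) := by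
    intro q
    rw [smul_apply_eq_smul_apply_inv_smul, hfix q]
    rfl
  let _ := H.fintypeQuotientOfFiniteIndex
  unfold diff
  dsimp only
  rw [Finset.prod_congr rfl (fun q _ => ?_)]
  · rw [Finset.prod_const, Finset.card_univ, Subgroup.index, Nat.card_eq_fintype_card]
  · obtain ⟨hg, he⟩ := hc (α q : G)
    refine (congrArg χ (Subtype.ext ?_)).trans he
    show (α q : G)⁻¹ * _ = _
    rw [hterm q]
    exact (mul_assoc _ _ _).symm

/-- An element no conjugate power of which has a nontrivial value transfers to one. -/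
theorem transfer_eq_one {x : G}
    (hc : ∀ (g : G) (n : ℕ) (hg : g⁻¹ * x ^ n * g ∈ H), χ ⟨g⁻¹ * x ^ n * g, hg⟩ = 1) :
    MonoidHom.transfer χ x = 1 := by
  classical
  have : Fintype (Quotient (orbitRel (zpowers x) (G ⧸ H))) := by
    have := H.fintypeQuotientOfFiniteIndex
    exact Quotient.fintype _
  rw [MonoidHom.transfer_eq_prod_quotient_orbitRel_zpowers_quot χ x]
  exact Finset.prod_eq_one fun q _ => hc _ _ _

end CfsgLib.CentralLift
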