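import Cfsg.Agent.Fus.CentralLift.Kernel
import Cfsg.Agent.Fus.CentralLift.Transfer

/-!
By transfer, the automorphisms of order prime to `p` of the pullback together with the conjugates
of the automorphisms induced by `T` meet the kernel in inner automorphisms only.
-/

set_option autoImplicit false
set_option linter.unusedSectionVars false

namespace CfsgLib.CentralLift

open Cfsg Cfsg.FusionSystem CfsgLib.Fus CfsgLib.Fusion.Alperin CfsgLib.NormalCent

variable {Ω : Type*} [Group Ω] {S : Subgroup Ω} {Ω' : Type*} [Group Ω'] {S' T' : Subgroup Ω'}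
  {p : ℕ} {F : Cfsg.FusionSystem S} {Z : Subgroup Ω} {θ : S →* Ω'}
  {F' : Cfsg.FusionSystem S'} {E' : Cfsg.FusionSystem T'}

namespace Setup

variable (h : Setup p F Z θ F' E') [Finite S] [Fact p.Prime]

include h

/-- The balanced automorphisms. -/
theorem exists_balanced {Q : Subgroup Ω} (hQ : Cen θ Z E' Q) (hn : F.IsFullyNormalized Q)
    (ih : ∀ M, Cen θ Z E' M → Nat.card Q < Nat.card M → MC h M) :
    ∃ B : Subgroup (MulAut Q), B ≤ (pullSys h).autGroup Q ∧
      (∀ a ∈ (pullSys h).autGroup Q, (orderOf a).Coprime p → a ∈ B) ∧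
      (∀ c ∈ F.autGroup Q, ∀ x ∈ Cfsg.autInducedBy (preimageAlong θ T') Q, c * x * c⁻¹ ∈ B) ∧
      ∀ a ∈ B, a ∈ kerGroup θ Q → a ∈ Cfsg.Inn Q := by
  classical
  have hQT := h.cen_le hQ
  have hQS := hQ.2.1
  have hn' := h.fn_im hQT hQ.1 hn
  have : Finite Q := finite_of_le hQS
  have := finite_mulAut Q
  set A := (pullSys h).autGroup Q with hA
  set AS := Cfsg.autInducedBy S Q with hAS
  set AT := Cfsg.autInducedBy (preimageAlong θ T') Q with hAT
  have hATS : AT ≤ AS := autInducedBy_mono (h.pre_le T')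
  have hATA : AT ≤ A := autInducedBy_le_autGroup _ hQT
  have hAF : A ≤ F.autGroup Q := autGroup_mono h.pull_sub Q
  have hASF : AS ≤ F.autGroup Q := autInducedBy_le_autGroup F hQS
  set H : Subgroup A := AS.subgroupOf A with hH
  set N₀ : Subgroup H := (AT.subgroupOf A).subgroupOf H with hN₀
  have hnorm : ∀ a ∈ AS, ∀ b ∈ AT, a * b * a⁻¹ ∈ AT := by
    intro a ha b hb
    obtain ⟨s, hs, has⟩ := mem_autInducedBy_iff.1 ha
    obtain ⟨t, ht, hbt⟩ := mem_autInducedBy_iff.1 hb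
    refine mem_autInducedBy_iff.2
      ⟨s * t * s⁻¹, h.mor_mem_T (mor_conj (h.pre_le T') hs) ht ht, fun y => ?_⟩
    obtain ⟨z, rfl⟩ := a.surjective y
    show ((a (b (a⁻¹ (a z))) : Q) : Ω) = _
    rw [MulAut.inv_apply_self, has, hbt, has]
    group
  have hN₀n : N₀.Normal := ⟨fun b hb a => hnorm _ a.2 _ hb⟩
  -- every element of `H` is congruent to a kernel automorphism
  have hdec : ∀ a : H, ∃ k : H, (((k : A) : MulAut Q)) ∈ F.autGroup Q ⊓ kerGroup θ Q ∧
      (QuotientGroup.mk' N₀ a : H ⧸ N₀) = QuotientGroup.mk' N₀ k := by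
    intro a
    obtain ⟨b, hb, hker⟩ := h.sigma hQ hn' (a : A).2 a.2
    refine ⟨⟨⟨b⁻¹ * ((a : A) : MulAut Q), mul_mem (Subgroup.inv_mem _ (hATA hb)) (a : A).2⟩,
      (mul_mem (Subgroup.inv_mem _ (hATS hb)) a.2 : b⁻¹ * ((a : A) : MulAut Q) ∈ AS)⟩,
      ⟨mul_mem (Subgroup.inv_mem _ (hAF (hATA hb))) (hAF (a : A).2), hker⟩, ?_⟩
    refine (QuotientGroup.eq (s := N₀)).2 ?_
    show ((a : A) : MulAut Q)⁻¹ * (b⁻¹ * ((a : A) : MulAut Q)) ∈ AT
    have := hnorm _ (Subgroup.inv_mem _ a.2) _ (Subgroup.inv_mem _ hb)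
    simpa [mul_assoc] using this
  let _ : CommGroup (H ⧸ N₀) :=
    { (inferInstance : Group (H ⧸ N₀)) with
      mul_comm := fun x y => by
        obtain ⟨a, rfl⟩ := QuotientGroup.mk'_surjective N₀ x
        obtain ⟨b, rfl⟩ := QuotientGroup.mk'_surjective N₀ y
        obtain ⟨k, hk, hka⟩ := hdec a
        obtain ⟨l, hl, hlb⟩ := hdec b
        rw [hka, hlb, ← map_mul, ← map_mul]
        exact congrArg _ (Subtype.ext (Subtype.ext (h.ker_comm hQS hk hl))) }
  set χ : H →* H ⧸ N₀ := QuotientGroup.mk' N₀ with hχ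
  have : H.FiniteIndex := inferInstance
  set tr : A →* H ⧸ N₀ := MonoidHom.transfer χ with htr
  have hHp : IsPGroup p H :=
    (isPGroup_autInducedBy h.hS Q).comap_subtype
  have hquot : IsPGroup p (H ⧸ N₀) := hHp.to_quotient N₀
  have hcop1 : ∀ {x : H ⧸ N₀} {m : ℕ}, m.Coprime p → x ^ m = 1 → x = 1 := by
    intro x m hm hxm
    obtain ⟨n, hn⟩ := hquot x
    exact orderOf_eq_one_iff.1 (Nat.eq_one_of_dvd_coprimes (hm.pow_right n)
      (orderOf_dvd_of_pow_eq_one hxm) (orderOf_dvd_of_pow_eq_one hn))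
  -- the index is prime to `p`
  have hindex : (H.index).Coprime p := by
    obtain ⟨-, R, hR⟩ := (fullyNormalized_props h.hS h.hF hn).1
    have hAn : (A.subgroupOf (F.autGroup Q)).Normal :=
      ⟨fun b hb c => h.pull_normal hQT c.2 hb⟩
    obtain ⟨U, hU⟩ := exists_sylow_inter_normal R (A.subgroupOf (F.autGroup Q))
    have h1 := U.not_dvd_index
    rw [hU, Subgroup.inf_subgroupOf_right, hR] at h1
    change ¬ p ∣ (AS.subgroupOf (F.autGroup Q)).relIndex (A.subgroupOf (F.autGroup Q)) at h1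
    rw [Subgroup.relIndex_subgroupOf hAF] at h1
    exact ((Nat.Prime.coprime_iff_not_dvd Fact.out).2 h1).symm
  refine ⟨(tr.ker).map A.subtype, Subgroup.map_subtype_le _, fun a ha hcop => ?_,
    fun c hc x hx => ?_, ?_⟩
  · refine ⟨⟨a, ha⟩, ?_, rfl⟩
    refine hcop1 hcop ?_
    rw [← map_pow, show (⟨a, ha⟩ : A) ^ orderOf a = 1 from Subtype.ext (pow_orderOf_eq_one a),
      map_one]
  · have hxA : c * x * c⁻¹ ∈ A := h.pull_normal hQT hc (hATA hx)
    refine ⟨⟨_, hxA⟩, ?_, rfl⟩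
    refine transfer_eq_one χ fun g n hg => ?_
    refine (QuotientGroup.eq_one_iff _).2 ?_
    show ((g : MulAut Q))⁻¹ * (c * x * c⁻¹) ^ n * (g : MulAut Q) ∈ AT
    have e : ((g : MulAut Q))⁻¹ * (c * x * c⁻¹) ^ n * (g : MulAut Q) =
        ((g : MulAut Q)⁻¹ * c) * x ^ n * ((g : MulAut Q)⁻¹ * c)⁻¹ := by
      rw [conj_pow]
      group
    rw [e]
    refine h.conj_autT hn (mul_mem (Subgroup.inv_mem _ (hAF g.2)) hc) (pow_mem hx n) ?_
    rw [← e]
    exact hg
  · rintro _ ⟨⟨a, ha⟩, hatr, rfl⟩ hker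
    have haK : a ∈ F.autGroup Q ⊓ kerGroup θ Q := ⟨hAF ha, hker⟩
    have haH : (⟨a, ha⟩ : A) ∈ H := h.ker_autS hQ.1 hn haK.1 haK.2
    have hpow := transfer_eq_pow_index χ haH fun g => by
      have hconj := h.ker_conj hQS (Subgroup.inv_mem _ (hAF g.2)) haK
      rw [inv_inv] at hconj
      refine ⟨h.ker_autS hQ.1 hn hconj.1 hconj.2, (QuotientGroup.eq (s := N₀)).2 ?_⟩
      show ((g : MulAut Q)⁻¹ * a * (g : MulAut Q))⁻¹ * a ∈ AT
      refine (inn_eq_autInducedBy_self Q).le.trans (autInducedBy_mono hQT) ?_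
      have h1 := (Cfsg.Inn Q).inv_mem (h.central hQ hn ih (Subgroup.inv_mem _ g.2) haK)
      rw [inv_inv] at h1
      have h2 := Subgroup.Normal.conj_mem (inn_normal Q) _ h1 a⁻¹
      convert h2 using 1
      group
    rw [← htr] at hpow
    have h1 : χ ⟨⟨a, ha⟩, haH⟩ = 1 := hcop1 hindex (hpow.symm.trans hatr)
    exact h.autT_ker hQ ((QuotientGroup.eq_one_iff (N := N₀) _).1 h1 : a ∈ AT) hker

end Setup

end CfsgLib.CentralLift
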