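import Cfsg.Agent.Fus.CentralLift.Balanced
import Cfsg.Agent.Fus.Generated
import Cfsg.Agent.Fus.StrictlyConstrained
import Cfsg.Agent.Fus.LocalSystems
import Cfsg.Agent.S5098

/-!
The automizers of the generated system are balanced, so their kernels are inner.
-/

set_option autoImplicit false
set_option linter.unusedSectionVars false

namespace CfsgLib.CentralLift

open Cfsg Cfsg.FusionSystem CfsgLib.Fus CfsgLib.Fusion.Alperin CfsgLib.NormalCent

variable {Ω : Type*} [Group Ω] {S : Subgroup Ω} {Ω' : Type*} [Group Ω'] {S' T' : Subgroup Ω'}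
  {p : ℕ} {F : Cfsg.FusionSystem S} {Z : Subgroup Ω} {θ : S →* Ω'}
  {F' : Cfsg.FusionSystem S'} {E' : Cfsg.FusionSystem T'}

theorem mor_aut_apply {T : Subgroup Ω} {E : Cfsg.FusionSystem T} {M : Subgroup Ω} {f : Ω → Ω}
    (hf : Mor E M f) (himg : f '' (M : Set Ω) = M) :
    ∃ a ∈ E.autGroup M, ∀ x : M, ((a x : M) : Ω) = f x := by
  obtain ⟨a, ha⟩ := exists_aut_of_mor hf himg
  exact ⟨a, a.2, ha⟩

/-- The hypotheses at a fully normalized subgroup with a balanced subgroup. -/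
structure BalCtx (h : Setup p F Z θ F' E') (Q : Subgroup Ω) (B : Subgroup (MulAut Q)) : Prop where
  cen : Cen θ Z E' Q
  fn : F.IsFullyNormalized Q
  ih : ∀ M, Cen θ Z E' M → Nat.card Q < Nat.card M → MC h M
  coprime : ∀ a ∈ (pullSys h).autGroup Q, (orderOf a).Coprime p → a ∈ B
  conj : ∀ c ∈ F.autGroup Q, ∀ x ∈ Cfsg.autInducedBy (preimageAlong θ T') Q, c * x * c⁻¹ ∈ B

namespace BalCtx

variable {h : Setup p F Z θ F' E'} {Q : Subgroup Ω} {B : Subgroup (MulAut Q)}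
  (K : BalCtx h Q B) [Finite S] [Fact p.Prime]

include K

theorem autT {x : MulAut Q} (hx : x ∈ Cfsg.autInducedBy (preimageAlong θ T') Q) : x ∈ B := by
  have := K.conj 1 (one_mem _) x hx
  simpa using this

theorem hQT : Q ≤ preimageAlong θ T' := h.cen_le K.cen

theorem cen_of_le {M : Subgroup Ω} (hQM : Q ≤ M) (hM : M ≤ preimageAlong θ T') : Cen θ Z E' M :=
  h.cen_mono K.cen hQM hM

theorem lt_card {M : Subgroup Ω} (hQM : Q ≤ M) (hM : M ≤ S) (hne : M ≠ Q) :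
    Nat.card Q < Nat.card M := by
  have : Finite M := finite_of_le hM
  refine lt_of_le_of_ne (Subgroup.card_le_of_le hQM) fun e => hne ?_
  exact (Subgroup.eq_of_le_of_card_ge hQM e.ge).symm

/-- Automorphisms of larger subgroups restrict to balanced ones. -/
theorem stab_mem {M : Subgroup Ω} (hQM : Q ≤ M) (hM : M ≤ normalizerIn (preimageAlong θ T') Q)
    (hne : M ≠ Q) {f : Ω → Ω} (hf : Mor (liftSys h) M f) (hfM : f '' (M : Set Ω) = M)
    (hfQ : f '' (Q : Set Ω) = Q) {r : MulAut Q} (hr : ∀ x : Q, ((r x : Q) : Ω) = f x) : r ∈ B := by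
  classical
  have hQT := K.hQT
  have hQS := K.cen.2.1
  have hTS := h.pre_le T'
  have hMT : M ≤ preimageAlong θ T' := hM.trans (normalizerIn_le Q)
  have hMS := hMT.trans hTS
  have hMN : M ≤ normalizerIn S Q := fun x hx => ⟨hMS hx, (hM hx).2⟩
  have hn' := h.fn_im hQT K.cen.1 K.fn
  obtain ⟨hfa, hrec⟩ := fullyNormalized_props h.hS h.hF K.fn
  have : Finite M := finite_of_le hMS
  have : Finite Q := finite_of_le hQS
  have := finite_mulAut M
  have := finite_mulAut Q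
  have hcard := K.lt_card hQM hMS hne
  obtain ⟨⟨a, haG⟩, ha⟩ := exists_aut_of_mor hf hfM
  obtain ⟨ρ, hρ⟩ := Generated.exists_res (F := liftSys h) hMT hQM
  have hast : (⟨a, haG⟩ : (liftSys h).autGroup M) ∈ Generated.stab (liftSys h) M Q := fun x => by
    show ((a x : M) : Ω) ∈ Q ↔ _
    rw [ha x]
    constructor
    · intro hx
      have hx' : f x ∈ f '' (Q : Set Ω) := hfQ.symm ▸ hx
      obtain ⟨y, hy, hye⟩ := hx'
      exact hf.injOn x.2 (hQM hy) hye.symm ▸ hy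
    · intro hx
      show _ ∈ (Q : Set Ω)
      rw [← hfQ]
      exact ⟨x, hx, rfl⟩
  set g : Generated.stab (liftSys h) M Q := ⟨⟨a, haG⟩, hast⟩ with hg
  have hrg : r = (ρ g : MulAut Q) := MulEquiv.ext fun x => Subtype.ext (by
    rw [hr, hρ g x]
    exact (ha (Subgroup.inclusion hQM x)).symm)
  obtain ⟨i, j, hij, ⟨n, hn⟩, hcop⟩ := StrictlyConstrained.exists_parts (p := p) g
  suffices hB : ((ρ (g ^ i) : (liftSys h).autGroup Q) : MulAut Q) ∈ B by
    rw [hrg, hij, map_mul, Subgroup.coe_mul]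
    refine B.mul_mem hB (K.coprime _ (autGroup_mono h.lift_sub_pull Q (ρ (g ^ j)).2) ?_)
    rw [Subgroup.orderOf_coe]
    exact hcop.of_dvd_left (orderOf_map_dvd ρ _)
  set e : MulAut M := ((g ^ i : Generated.stab (liftSys h) M Q) : (liftSys h).autGroup M).1 with he
  have heG : e ∈ (liftSys h).autGroup M :=
    ((g ^ i : Generated.stab (liftSys h) M Q) : (liftSys h).autGroup M).2
  have hestab : ∀ x : M, ((e x : M) : Ω) ∈ Q ↔ (x : Ω) ∈ Q := (g ^ i).2
  set ep : MulAut Q := ((ρ (g ^ i) : (liftSys h).autGroup Q) : MulAut Q) with hep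
  have hepe : ∀ x : Q, ((ep x : Q) : Ω) = ((e (Subgroup.inclusion hQM x) : M) : Ω) := fun x => hρ _ x
  -- a `p`-group carried into `Aut_S(Q)`
  have hInnG : ∀ m : M, (MulAut.conj m : MulAut M) ∈ (liftSys h).autGroup M := fun m =>
    inn_le_autGroup (liftSys h) hMT ⟨m, rfl⟩
  set W : Subgroup (MulAut M) := Cfsg.Inn M ⊔ Subgroup.zpowers e with hW
  have hWp : IsPGroup p W := by
    refine IsPGroup.to_sup_of_normal_left ((isPGroup_autInducedBy (h.hS.to_le hMS) M).to_le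
      (inn_eq_autInducedBy_self M).le) ?_
    have he1 : e ^ p ^ n = 1 := by
      rw [he, ← SubgroupClass.coe_pow, ← SubgroupClass.coe_pow, hn]
      rfl
    rintro ⟨x, k, rfl⟩
    refine ⟨n, Subtype.ext ?_⟩
    show (e ^ k) ^ p ^ n = 1
    rw [← zpow_natCast, zpow_comm, zpow_natCast, he1, one_zpow]
  set X : Subgroup (MulAut Q) := (((W.subgroupOf ((liftSys h).autGroup M)).subgroupOf
    (Generated.stab (liftSys h) M Q)).map ρ).map ((liftSys h).autGroup Q).subtype with hX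
  have hXp : IsPGroup p X := ((hWp.comap_subtype).comap_subtype.map ρ).map _
  have hXF : X ≤ F.autGroup Q := fun x hx => by
    obtain ⟨y, -, rfl⟩ := hx
    exact autGroup_mono h.lift_sub Q y.2
  obtain ⟨c, hc, hcX⟩ := exists_conj_into_autS hfa hXF hXp
  have hepX : ep ∈ X := ⟨ρ (g ^ i), ⟨g ^ i, (Subgroup.mem_sup_right
    (Subgroup.mem_zpowers e) : e ∈ W), rfl⟩, rfl⟩
  have hmX : ∀ (m : Ω) (hm : m ∈ M), conjAut (hMN hm).2 ∈ X := by
    intro m hm
    have hst : (⟨_, hInnG ⟨m, hm⟩⟩ : (liftSys h).autGroup M) ∈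
        Generated.stab (liftSys h) M Q := fun x => by
      show m * (x : Ω) * m⁻¹ ∈ Q ↔ (x : Ω) ∈ Q
      exact (Subgroup.mem_normalizer_iff.1 (hMN hm).2 x).symm
    refine ⟨ρ ⟨_, hst⟩, ⟨⟨_, hst⟩, (Subgroup.mem_sup_left ⟨⟨m, hm⟩, rfl⟩ :
      (MulAut.conj ⟨m, hm⟩ : MulAut M) ∈ W), rfl⟩, MulEquiv.ext fun x => Subtype.ext ?_⟩
    exact (hρ _ x).trans rfl
  -- extend the conjugator to `M`
  have hφ := (mem_autGroup_iff F hQS).1 hc
  have hext : M ≤ extender S Q (Q.subtype.comp c.toMonoidHom) := fun m hm =>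
    mem_extender_of_congr hφ (range_subtype_comp c) (hMS hm) (hMN hm).2 (by
      rw [congr_subtype_comp hφ]; exact hcX _ (hmX m hm))
  obtain ⟨ψ, hψ, hψe⟩ := exists_ext hrec hφ (range_subtype_comp c) hQM hext
  obtain ⟨τ, hτ, hτe⟩ := exists_mor hψ
  have hτQ : ∀ x : Q, τ x = ((c x : Q) : Ω) := fun x =>
    (hτe (Subgroup.inclusion hQM x)).trans (hψe x)
  obtain ⟨M', hM', -⟩ := hτ.exists_img le_rfl
  have hQτ : τ '' (Q : Set Ω) = Q := by
    ext y
    constructor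
    · rintro ⟨x, hx, rfl⟩
      rw [hτQ ⟨x, hx⟩]
      exact SetLike.coe_mem _
    · intro hy
      exact ⟨_, (c⁻¹ ⟨y, hy⟩).2, (hτQ _).trans (congrArg Subtype.val (c.apply_symm_apply _))⟩
  have hM'm : ∀ x ∈ M, τ x ∈ M' := fun x hx => by
    show _ ∈ (M' : Set Ω); rw [← hM']; exact ⟨x, hx, rfl⟩
  have hQM' : Q ≤ M' := fun y hy => by
    have hy' : y ∈ τ '' (Q : Set Ω) := hQτ.symm ▸ hy
    obtain ⟨x, hx, rfl⟩ := hy'
    exact hM'm x (hQM hx)
  have hM'N : M' ≤ normalizerIn (preimageAlong θ T') Q := fun y hy => by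
    have hy' : y ∈ τ '' (M : Set Ω) := hM' ▸ hy
    obtain ⟨x, hx, rfl⟩ := hy'
    exact ⟨h.mor_mem_T hτ hx (hMT hx), (hτ.map_normalizer hQM hQτ hx (hMN hx).2).2⟩
  have hM'T : M' ≤ preimageAlong θ T' := hM'N.trans (normalizerIn_le Q)
  have hM'S := hM'T.trans hTS
  have hcard' : Nat.card Q < Nat.card M' := by rw [hτ.card_img le_rfl hM']; exact hcard
  -- the transported element
  obtain ⟨fe, hfe, hfee, hfeimg⟩ := exists_mor_of_aut hMT (⟨e, heG⟩ : (liftSys h).autGroup M)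
  obtain ⟨fx, hfx, hfxe⟩ := mor_transport h.lift_strong hτ hMT hfe le_rfl
    (fun x hx => (hfee ⟨x, hx⟩).symm ▸ SetLike.coe_mem _) hM'
  have : Finite M' := finite_of_le hM'S
  obtain ⟨x', hx'G, hx'⟩ := mor_aut_apply hfx (image_eq hfx fun y hy => by
    have hy' : y ∈ τ '' (M : Set Ω) := hM' ▸ hy
    obtain ⟨x, hx, rfl⟩ := hy'
    rw [hfxe x hx]
    exact hM'm _ ((hfee ⟨x, hx⟩).symm ▸ SetLike.coe_mem _))
  set r' : MulAut Q := c * ep * c⁻¹ with hr'
  have hx'Q : ∀ q : Q, ((x' (Subgroup.inclusion hQM' q) : M') : Ω) = ((r' q : Q) : Ω) := by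
    intro q
    obtain ⟨z, rfl⟩ := c.surjective q
    rw [hr', MulAut.mul_apply, MulAut.mul_apply, MulAut.inv_apply_self, hx', ← hτQ (ep z)]
    show fx ((c z : Q) : Ω) = _
    rw [← hτQ z, hfxe z (hQM z.2), show fe z = _ from hfee (Subgroup.inclusion hQM z), hepe z]
  have hr'A : r' ∈ (pullSys h).autGroup Q :=
    h.pull_normal hQT hc (autGroup_mono h.lift_sub_pull Q (ρ (g ^ i)).2)
  obtain ⟨v, hv, hker⟩ := h.sigma K.cen hn' hr'A (hcX _ hepX)
  obtain ⟨t, ht, hvt⟩ := mem_autInducedBy_iff.1 hv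
  have htS := hTS ht
  have htQ : t ∈ Subgroup.normalizer (Q : Set Ω) := mem_normalizer_of_aut hvt
  -- `r'` acts modulo `Z` as `t`
  have hrt : ∀ z : Q, thFun θ ((r' z : Q) : Ω) =
      thFun θ t * thFun θ z * (thFun θ t)⁻¹ := by
    intro z
    have h1 := hker z
    set w := (v⁻¹ * r') z with hw
    have e1 : v w = r' z := by
      rw [hw, MulAut.mul_apply, MulAut.inv_apply, MulEquiv.apply_symm_apply]
    rw [← e1, hvt, thFun_conj θ htS (hQS w.2), h1]
  have htM' : t ∈ Subgroup.normalizer (M' : Set Ω) := by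
    refine Subgroup.mem_normalizer_fintype fun m hm => ?_
    set m₁ : Ω := ((x' ⟨m, hm⟩ : M') : Ω) with hm₁
    have hm₁M : m₁ ∈ M' := SetLike.coe_mem _
    have hw : m₁⁻¹ * (t * m * t⁻¹) ∈ Q := by
      refine h.cen_self K.cen (mul_mem (inv_mem (hM'T hm₁M))
        (mul_mem (mul_mem ht (hM'T hm)) (inv_mem ht))) fun q hq => ?_
      set q₀ : Q := r'.symm ⟨q, hq⟩ with hq₀
      have hrq : r' q₀ = ⟨q, hq⟩ := MulEquiv.apply_symm_apply _ _
      have hq₀' : thFun θ q = thFun θ t * thFun θ q₀ * (thFun θ t)⁻¹ := by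
        rw [← hrt q₀, hrq]
      set q₁ : Q := conjAut (hM'N hm).2 q₀ with hq₁
      have h2 : ((r' q₁ : Q) : Ω) = m₁ * q * m₁⁻¹ := by
        rw [← hx'Q]
        have e2 : Subgroup.inclusion hQM' q₁ =
            ⟨m, hm⟩ * Subgroup.inclusion hQM' q₀ * ⟨m, hm⟩⁻¹ := Subtype.ext rfl
        rw [e2, map_mul, map_mul, map_inv]
        show m₁ * ((x' (Subgroup.inclusion hQM' q₀) : M') : Ω) * m₁⁻¹ = _
        rw [hx'Q, hrq]
      have h3 := hrt q₁
      rw [h2, thFun_conj θ (hM'S hm₁M) (hQS hq), hq₁, conjAut_apply,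
        thFun_conj θ (hM'S hm) (hQS q₀.2)] at h3
      have hmS := hM'S hm
      rw [thFun_conj θ (S.mul_mem (S.inv_mem (hM'S hm₁M))
          (S.mul_mem (S.mul_mem htS hmS) (S.inv_mem htS))) (hQS hq),
        thFun_mul θ (S.inv_mem (hM'S hm₁M)) (S.mul_mem (S.mul_mem htS hmS) (S.inv_mem htS)),
        thFun_inv θ (hM'S hm₁M), thFun_conj θ htS hmS, hq₀']
      rw [hq₀'] at h3
      generalize thFun θ m₁ = a₁ at h3 ⊢
      generalize thFun θ t = b₁ at h3 ⊢
      generalize thFun θ m = c₁ at h3 ⊢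
      generalize thFun θ (q₀ : Ω) = d₁ at h3 ⊢
      calc a₁⁻¹ * (b₁ * c₁ * b₁⁻¹) * (b₁ * d₁ * b₁⁻¹) * (a₁⁻¹ * (b₁ * c₁ * b₁⁻¹))⁻¹
          = a₁⁻¹ * (b₁ * (c₁ * d₁ * c₁⁻¹) * b₁⁻¹) * a₁ := by group
        _ = a₁⁻¹ * (a₁ * (b₁ * d₁ * b₁⁻¹) * a₁⁻¹) * a₁ := by rw [h3]
        _ = b₁ * d₁ * b₁⁻¹ := by group
    have := M'.mul_mem hm₁M (hQM' hw)
    rwa [mul_inv_cancel_left] at this
  have hy : (conjAut htM')⁻¹ * x' ∈ (liftSys h).autGroup M' :=
    Subgroup.mul_mem _ (Subgroup.inv_mem _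
      (h.autT_le_lift hM'T (conjAut_mem_autInducedBy htM' ht))) hx'G
  obtain ⟨q, hq, hqe⟩ := h.restrict_inn K.cen hQM' hM'N
    (K.ih M' (K.cen_of_le hQM' hM'T) hcard') hy (fun y hy' => by
      set w := ((conjAut htM')⁻¹ * x') y with hw
      have e1 : conjAut htM' w = x' y := by
        rw [hw, MulAut.mul_apply, MulAut.inv_apply, MulEquiv.apply_symm_apply]
      have e2 := hx'Q ⟨y, hy'⟩
      rw [show Subgroup.inclusion hQM' ⟨(y : Ω), hy'⟩ = y from Subtype.ext rfl, ← e1,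
        conjAut_apply] at e2
      have e3 := hrt ⟨y, hy'⟩
      rw [← e2, thFun_conj θ htS (hM'S w.2)] at e3
      exact mul_left_cancel (mul_right_cancel e3))
  have hr'T : r' ∈ Cfsg.autInducedBy (preimageAlong θ T') Q := by
    refine mem_autInducedBy_iff.2 ⟨t * q, mul_mem ht (hQT hq), fun z => ?_⟩
    rw [← hx'Q]
    have h1 := hqe (Subgroup.inclusion hQM' z) z.2
    set w := ((conjAut htM')⁻¹ * x') (Subgroup.inclusion hQM' z) with hw
    have e1 : conjAut htM' w = x' (Subgroup.inclusion hQM' z) := by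
      rw [hw, MulAut.mul_apply, MulAut.inv_apply, MulEquiv.apply_symm_apply]
    rw [← e1, conjAut_apply, h1]
    show t * (q * (z : Ω) * q⁻¹) * t⁻¹ = _
    group
  have hfinal := K.conj c⁻¹ (Subgroup.inv_mem _ hc) r' hr'T
  rw [hr'] at hfinal
  simpa [mul_assoc] using hfinal

/-- Automorphisms of the image of `Q` lift to balanced automorphisms. -/
theorem lift_balanced {g : Ω' → Ω'} (hg : Mor E' (imageAlong θ Q) g)
    (himg : g '' (imageAlong θ Q : Set Ω') = imageAlong θ Q) :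
    ∃ r ∈ (liftSys h).autGroup Q, r ∈ B ∧
      ∀ x : Q, g (thFun θ x) = thFun θ ((r x : Q) : Ω) := by
  classical
  have hQT := K.hQT
  have hQS := K.cen.2.1
  have := h.finite_T'
  have : Finite Q := finite_of_le hQS
  have := finite_mulAut Q
  set Q' := imageAlong θ Q with hQ'
  have hQ'T : Q' ≤ T' := h.im_le_T hQT
  have : Finite Q' := finite_of_le hQ'T
  have := finite_mulAut Q'
  have hm : ∀ x : Q, thFun θ (x : Ω) ∈ Q' := fun x => mem_im.2 ⟨x, x.2, hQS x.2, rfl⟩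
  let L : Subgroup (E'.autGroup Q') :=
    { carrier := {b | ∃ r ∈ (liftSys h).autGroup Q, r ∈ B ∧
        ∀ x : Q, (((b : MulAut Q') ⟨thFun θ x, hm x⟩ : Q') : Ω') = thFun θ ((r x : Q) : Ω)}
      one_mem' := ⟨1, one_mem _, one_mem _, fun x => rfl⟩
      mul_mem' := fun {b₁ b₂} h₁ h₂ => by
        obtain ⟨r₁, hr₁, hr₁B, hr₁e⟩ := h₁
        obtain ⟨r₂, hr₂, hr₂B, hr₂e⟩ := h₂
        refine ⟨r₁ * r₂, mul_mem hr₁ hr₂, mul_mem hr₁B hr₂B, fun x => ?_⟩
        show _ = thFun θ ((r₁ (r₂ x) : Q) : Ω)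
        rw [← hr₁e (r₂ x)]
        exact congrArg (fun y => (((b₁ : MulAut Q') y : Q') : Ω')) (Subtype.ext (hr₂e x))
      inv_mem' := fun {b} hb => by
        obtain ⟨r, hr, hrB, hre⟩ := hb
        refine ⟨r⁻¹, Subgroup.inv_mem _ hr, Subgroup.inv_mem _ hrB, fun x => ?_⟩
        have h1 := hre (r⁻¹ x)
        rw [MulAut.inv_apply, MulEquiv.apply_symm_apply] at h1
        have e1 : (⟨thFun θ x, hm x⟩ : Q') =
            (b : MulAut Q') ⟨thFun θ ((r⁻¹ x : Q) : Ω), hm _⟩ := by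
          refine Subtype.ext ?_
          rw [MulAut.inv_apply]
          exact h1.symm
        rw [e1, Subgroup.coe_inv, MulAut.inv_apply, MulEquiv.symm_apply_apply] }
  have hL : L = ⊤ := by
    obtain ⟨-, P, hP⟩ := (fullyNormalized_props h.pgroup_T' h.hN.1.1
      (h.fn_im hQT K.cen.1 K.fn)).1
    refine eq_top_of_sylow_of_coprime P ?_ ?_
    · rw [hP]
      rintro b hb
      obtain ⟨t', ht', hbt⟩ := mem_autInducedBy_iff.1 hb
      obtain ⟨t, ht, rfl⟩ := h.th_surj (h.T'_le ht')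
      have htN : t ∈ Subgroup.normalizer (Q : Set Ω) :=
        h.normalizer_of_im hQS K.cen.1 ht fun x hx =>
          (hbt ⟨thFun θ x, hm ⟨x, hx⟩⟩) ▸ SetLike.coe_mem _
      have htT : t ∈ preimageAlong θ T' := mem_pre.2 ⟨ht, ht'⟩
      exact ⟨conjAut htN, h.autT_le_lift hQT (conjAut_mem_autInducedBy htN htT),
        K.autT (conjAut_mem_autInducedBy htN htT), fun x => by
        rw [conjAut_apply, thFun_conj θ ht (hQS x.2)]
        exact hbt _⟩
    · intro b hb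
      rw [← Subgroup.orderOf_coe] at hb
      obtain ⟨g₁, hg₁, hg₁e, hg₁img⟩ := exists_mor_of_aut hQ'T b
      obtain ⟨f, hf, hfi⟩ := h.exists_lift_E hg₁
      rw [h.pre_im hQS K.cen.1] at hf hfi
      have hfimg := h.img_pre (mor_of_sub h.lift_sub hf) K.cen.1 hfi hg₁img
      rw [h.pre_im hQS K.cen.1] at hfimg
      obtain ⟨a, ha⟩ := exists_aut_of_mor hf hfimg
      obtain ⟨k, n, -, hn, hkn, hk⟩ := exists_coprime_exponent (a : MulAut Q) hb
      have hbk : (b : MulAut Q') ^ k = b := hk _ rfl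
      have hcop : (orderOf ((a : MulAut Q) ^ k)).Coprime p :=
        Nat.Coprime.of_dvd_left (orderOf_dvd_of_pow_eq_one hkn) hn
      refine ⟨(a : MulAut Q) ^ k, pow_mem a.2 k,
        K.coprime _ (autGroup_mono h.lift_sub_pull Q (pow_mem a.2 k)) hcop, fun x => ?_⟩
      have hpow : ∀ (i : ℕ) (x : Q), thFun θ ((((a : MulAut Q) ^ i) x : Q) : Ω) =
          ((((b : MulAut Q') ^ i) ⟨thFun θ x, hm x⟩ : Q') : Ω') := by
        intro i
        induction i with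
        | zero => intro x; rfl
        | succ i ih =>
          intro x
          rw [pow_succ, pow_succ, MulAut.mul_apply, MulAut.mul_apply, ih]
          refine congrArg (fun y => ((((b : MulAut Q') ^ i) y : Q') : Ω')) (Subtype.ext ?_)
          show thFun θ (((a : MulAut Q) x : Q) : Ω) = _
          rw [ha x, ← hfi x x.2, hg₁e ⟨_, hm x⟩]
      rw [hpow k x, hbk]
  obtain ⟨b, hb⟩ := exists_aut_of_mor hg himg
  obtain ⟨r, hr, hrB, hre⟩ := (hL ▸ Subgroup.mem_top b : b ∈ L)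
  exact ⟨r, hr, hrB, fun x => (hb _).symm.trans (hre x)⟩

/-- Maps between overgroups restrict to balanced automorphisms. -/
theorem star {D : Subgroup Ω} (hQD : Q ≤ D) (hD : D ≤ normalizerIn (preimageAlong θ T') Q)
    (hne : D ≠ Q) {f : Ω → Ω} (hf : Mor (liftSys h) D f) (hfQ : f '' (Q : Set Ω) = Q)
    {r : MulAut Q} (hr : ∀ x : Q, ((r x : Q) : Ω) = f x) : r ∈ B := by
  classical
  have hQT := K.hQT
  have hQS := K.cen.2.1
  have hTS := h.pre_le T'
  have hDT : D ≤ preimageAlong θ T' := hD.trans (normalizerIn_le Q)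
  have hDS := hDT.trans hTS
  have hZD : Z ≤ D := K.cen.1.trans hQD
  have hn' := h.fn_im hQT K.cen.1 K.fn
  have := h.finite_T'
  have : Finite Q := finite_of_le hQS
  set Q' := imageAlong θ Q with hQ'
  have hQ'T : Q' ≤ T' := h.im_le_T hQT
  have : Finite Q' := finite_of_le hQ'T
  set N := normalizerSystem E' Q' hQ'T with hN
  have hNsat : N.IsSaturated p :=
    Cfsg.Agent.S5098.result p h.pgroup_T' E' h.hN.1.1 Q' hn' N fun _ => rfl
  have : Finite (normalizerIn T' Q') := finite_of_le (normalizerIn_le Q')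
  have hQ'N : N.IsNormal Q' := by
    refine ⟨le_normalizerIn hQ'T, fun P φ hφ => ?_⟩
    obtain ⟨-, hP, -, ψ, hψ, hψe, hψQ⟩ := hφ
    have hle : P ⊔ Q' ≤ normalizerIn T' Q' := sup_le hP (le_normalizerIn hQ'T)
    have hψN : ∀ x : (P ⊔ Q' : Subgroup Ω'), ψ x ∈ normalizerIn T' Q' := by
      intro x
      obtain ⟨k, hk, hke⟩ := exists_mor hψ
      rw [← hke x]
      refine ⟨hk.mem x.2, (hk.map_normalizer (Q := Q') (R := Q') le_sup_right ?_ x.2
        (hle x.2).2).2⟩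
      ext y
      constructor
      · rintro ⟨z, hz, rfl⟩
        rw [hke ⟨z, Subgroup.mem_sup_right hz⟩]
        exact hψQ.le ⟨_, hz, rfl⟩
      · intro hy
        obtain ⟨z, hz, rfl⟩ := hψQ.ge hy
        exact ⟨z, hz, hke z⟩
    refine ⟨ψ, ⟨hψ, hle, hψN, ψ.comp (Subgroup.inclusion (sup_le le_rfl le_sup_right)),
      restrict_mem E' hψ _, fun x => rfl, ?_⟩, hψe, hψQ⟩
    ext y
    constructor
    · rintro ⟨z, hz, rfl⟩
      exact hψQ.le ⟨_, hz, rfl⟩
    · intro hy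
      obtain ⟨z, hz, rfl⟩ := hψQ.ge hy
      exact ⟨⟨z, Subgroup.mem_sup_left z.2⟩, hz, rfl⟩
  -- every map of the normalizer lifts to a balanced map
  let C : ∀ P : Subgroup Ω', (P →* Ω') → Prop := fun P φ =>
    ∃ e, Mor (liftSys h) (preimageAlong θ (P ⊔ Q')) e ∧
      (∀ x ∈ preimageAlong θ (P ⊔ Q'), ∀ hx : thFun θ x ∈ P, φ ⟨thFun θ x, hx⟩ = thFun θ (e x)) ∧
      e '' (Q : Set Ω) = Q ∧ ∀ r : MulAut Q, (∀ x : Q, ((r x : Q) : Ω) = e x) → r ∈ B
  have hQpre : ∀ P : Subgroup Ω', Q ≤ preimageAlong θ (P ⊔ Q') := fun P x hx =>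
    mem_pre.2 ⟨hQS hx, Subgroup.mem_sup_right (mem_im.2 ⟨x, hx, hQS hx, rfl⟩)⟩
  -- the image of the domain
  have himgC : ∀ {P R : Subgroup Ω'} {φ : P →* Ω'} {e : Ω → Ω}, P ≤ S' →
      Mor (liftSys h) (preimageAlong θ (P ⊔ Q')) e →
      (∀ x ∈ preimageAlong θ (P ⊔ Q'), ∀ hx : thFun θ x ∈ P,
        φ ⟨thFun θ x, hx⟩ = thFun θ (e x)) →
      e '' (Q : Set Ω) = Q → (∀ x : P, φ x ∈ R) →
      ∀ x ∈ preimageAlong θ (P ⊔ Q'), e x ∈ preimageAlong θ (R ⊔ Q') := by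
    intro P R φ e hPS' he hei heQ hφR x hx
    obtain ⟨g, hg, hgi⟩ := h.exists_red (mor_of_sub h.lift_sub he)
    rw [h.im_pre (sup_le hPS' (hQ'T.trans h.T'_le))] at hg
    refine mem_pre.2 ⟨(mor_of_sub h.lift_sub he).mem hx, ?_⟩
    rw [← hgi x hx]
    refine mem_of_sup hg le_rfl (fun y hy => ?_) (fun y hy => ?_) (mem_pre.1 hx).2
    · obtain ⟨z, hz, rfl⟩ := h.th_surj (hPS' hy)
      have hz' : z ∈ preimageAlong θ (P ⊔ Q') := mem_pre.2 ⟨hz, Subgroup.mem_sup_left hy⟩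
      rw [hgi z hz', ← hei z hz' hy]
      exact Subgroup.mem_sup_left (hφR _)
    · obtain ⟨z, hz, hzS, rfl⟩ := mem_im.1 hy
      rw [hgi z (hQpre P hz)]
      have hez : e z ∈ Q := by
        show _ ∈ (Q : Set Ω); rw [← heQ]; exact ⟨z, hz, rfl⟩
      exact Subgroup.mem_sup_right (mem_im.2 ⟨_, hez, hQS hez, rfl⟩)
  have hkey : ∀ {P : Subgroup Ω'} {φ : P →* Ω'}, φ ∈ N.Hom P → C P φ := by
    intro P φ hφ
    refine hom_induction (h.pgroup_T'.to_le (normalizerIn_le Q')) hNsat (C := C)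
      (fun R hR α hα => ?_) (fun {P R} hPR {ψ} _ hC => ?_) (fun {P R φ ψ} hφ _ hh hC hD => ?_)
      (fun {P R φ ψ} hφ hψ hr hl hC => ?_) hφ
    · have hQR : Q' ≤ R :=
        le_of_centric_radical (h.pgroup_T'.to_le (normalizerIn_le Q')) hQ'N hR.centric hR.radical
      have hRN : R ≤ normalizerIn T' Q' := hR.centric.1
      have hRT : R ≤ T' := hRN.trans (normalizerIn_le Q')
      have hRS' : R ≤ S' := hRT.trans h.T'_le
      have hαN := (mem_autGroup_iff N hRN).1 hα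
      obtain ⟨g, hg, hge⟩ := exists_mor hαN.1
      have hgimg : g '' (R : Set Ω') = R := by
        ext y
        constructor
        · rintro ⟨x, hx, rfl⟩
          rw [hge ⟨x, hx⟩]
          exact SetLike.coe_mem _
        · intro hy
          refine ⟨_, (α⁻¹ ⟨y, hy⟩).2, (hge _).trans ?_⟩
          exact congrArg Subtype.val (α.apply_symm_apply ⟨y, hy⟩)
      have hgQ : g '' (Q' : Set Ω') = Q' := by
        obtain ⟨-, -, -, ψ, hψ, hψe, hψQ⟩ := hαN
        have hψg : ∀ x : (R ⊔ Q' : Subgroup Ω'), ψ x = g x := fun x => by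
          have hxR : (x : Ω') ∈ R := sup_le le_rfl hQR x.2
          rw [hge ⟨x, hxR⟩, ← hψe ⟨x, hxR⟩]
          exact congrArg ψ (Subtype.ext rfl)
        ext y
        constructor
        · rintro ⟨z, hz, rfl⟩
          rw [← hψg ⟨z, Subgroup.mem_sup_right hz⟩]
          exact hψQ.le ⟨_, hz, rfl⟩
        · intro hy
          obtain ⟨z, hz, rfl⟩ := hψQ.ge hy
          exact ⟨z, hz, (hψg z).symm⟩
      by_cases hRQ : R = Q'
      · subst hRQ
        obtain ⟨r, hr, hrB, hre⟩ := K.lift_balanced hg hgimg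
        obtain ⟨e, he, hee, heimg⟩ := exists_mor_of_aut hQT ⟨r, hr⟩
        have e2 : preimageAlong θ (Q' ⊔ Q') = Q := by rw [sup_idem]; exact h.pre_im hQS K.cen.1
        refine ⟨e, e2.symm ▸ he, fun x hx hx' => ?_, heimg, fun r' hr' => ?_⟩
        · have hxQ : x ∈ Q := e2 ▸ hx
          rw [hee ⟨x, hxQ⟩, ← hre ⟨x, hxQ⟩]
          exact (hge ⟨_, hx'⟩).symm
        · rw [show r' = r from MulEquiv.ext fun x => Subtype.ext ((hr' x).trans (hee x))]
          exact hrB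
      · obtain ⟨e, he, hei⟩ := h.exists_lift_E hg
        have e2 : preimageAlong θ (R ⊔ Q') = preimageAlong θ R := by rw [sup_eq_left.2 hQR]
        have heF := mor_of_sub h.lift_sub he
        have hQR' : Q ≤ preimageAlong θ R := e2 ▸ hQpre R
        have heR := h.img_pre heF (h.Z_le_pre R) hei (Q' := R) (by rwa [h.im_pre hRS'])
        have heQ : e '' (Q : Set Ω) = Q := by
          have := h.img_pre (heF.restrict hQR') K.cen.1 (fun x hx => hei x (hQR' hx)) hgQ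
          rwa [h.pre_im hQS K.cen.1] at this
        refine ⟨e, e2.symm ▸ he, fun x hx hx' => ?_, heQ, fun r' hr' => ?_⟩
        · exact (hge ⟨_, hx'⟩).symm.trans (hei x (e2 ▸ hx))
        · refine K.stab_mem hQR' (fun x hx => ⟨(fun hx => mem_pre.2
            ⟨(mem_pre.1 hx).1, hRT (mem_pre.1 hx).2⟩ : _ → x ∈ preimageAlong θ T') hx,
            h.normalizer_of_im hQS K.cen.1 (mem_pre.1 hx).1 fun q hq =>
              conj_mem_of_normalizer (hRN (mem_pre.1 hx).2).2 (mem_im.2 ⟨q, hq, hQS hq, rfl⟩)⟩)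
            (fun hc => hRQ ?_) he heR heQ hr'
          rw [← h.im_pre hRS', hc]
    · obtain ⟨e, he, hei, heQ, heB⟩ := hC
      have hle : P ⊔ Q' ≤ R ⊔ Q' := sup_le_sup_right hPR _
      exact ⟨e, he.restrict (h.pre_mono hle), fun x hx hx' =>
        hei x (h.pre_mono hle hx) (hPR hx'), heQ, heB⟩
    · obtain ⟨e, he, hei, heQ, heB⟩ := hC
      obtain ⟨k, hk, hki, hkQ, hkB⟩ := hD
      have hm := himgC ((hom_le N hφ).trans ((normalizerIn_le Q').trans h.T'_le)) he hei heQ hh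
      have hQe : ∀ x ∈ Q, e x ∈ Q := fun x hx => by
        show _ ∈ (Q : Set Ω); rw [← heQ]; exact ⟨x, hx, rfl⟩
      refine ⟨k ∘ e, he.comp hk hm, fun x hx hx' => ?_, ?_, fun r hr => ?_⟩
      · show ψ ⟨φ ⟨thFun θ x, hx'⟩, _⟩ = thFun θ (k (e x))
        rw [← hki (e x) (hm x hx) (by rw [← hei x hx hx']; exact hh _)]
        exact congrArg ψ (Subtype.ext (hei x hx hx'))
      · rw [Set.image_comp, heQ, hkQ]
      · obtain ⟨r₁, -, hr₁⟩ := mor_aut_apply (he.restrict (hQpre P)) heQ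
        obtain ⟨r₂, -, hr₂⟩ := mor_aut_apply (hk.restrict (hQpre R)) hkQ
        have e1 : r = r₂ * r₁ := MulEquiv.ext fun x => Subtype.ext (by
          rw [MulAut.mul_apply, hr, hr₂, hr₁]
          rfl)
        rw [e1]
        exact mul_mem (hkB r₂ hr₂) (heB r₁ hr₁)
    · obtain ⟨e, he, hei, heQ, heB⟩ := hC
      have hPS' : P ≤ S' := (hom_le N hφ).trans ((normalizerIn_le Q').trans h.T'_le)
      have hPQ' : P ⊔ Q' ≤ S' := sup_le hPS' (hQ'T.trans h.T'_le)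
      obtain ⟨g, hg, hgi⟩ := h.exists_red (mor_of_sub h.lift_sub he)
      rw [h.im_pre hPQ'] at hg
      have hgimg : g '' ((P ⊔ Q' : Subgroup Ω') : Set Ω') = (R ⊔ Q' : Subgroup Ω') := by
        obtain ⟨η, hη, hηe⟩ := hg
        have h1 : (η.range : Set Ω') = g '' ((P ⊔ Q' : Subgroup Ω') : Set Ω') := by
          ext y
          constructor
          · rintro ⟨x, rfl⟩; exact ⟨x, x.2, (hηe x).symm⟩
          · rintro ⟨x, hx, rfl⟩; exact ⟨⟨x, hx⟩, hηe _⟩
        rw [← h1]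
        refine congrArg _ (le_antisymm ?_ (sup_le ?_ ?_))
        · rintro _ ⟨x, rfl⟩
          obtain ⟨z, hz, hzx⟩ := h.th_surj (hPQ' x.2)
          have hz' : z ∈ preimageAlong θ (P ⊔ Q') := mem_pre.2 ⟨hz, hzx.symm ▸ x.2⟩
          rw [hηe, ← hzx, hgi z hz']
          exact (mem_pre.1 (himgC (R := R) hPS' he hei heQ (fun w => hr.le ⟨w, rfl⟩) z hz')).2
        · intro y hy
          obtain ⟨x, hx⟩ := hr.ge hy
          refine ⟨⟨x, Subgroup.mem_sup_left x.2⟩, ?_⟩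
          obtain ⟨z, hz, hzx⟩ := h.th_surj (hPS' x.2)
          have hz' : z ∈ preimageAlong θ (P ⊔ Q') :=
            mem_pre.2 ⟨hz, Subgroup.mem_sup_left (hzx.symm ▸ x.2)⟩
          rw [hηe, ← hx]
          show g (x : Ω') = _
          rw [← hzx, hgi z hz', ← hei z hz' (hzx.symm ▸ x.2)]
          exact congrArg φ (Subtype.ext hzx)
        · intro y hy
          obtain ⟨q, hq, hqS, rfl⟩ := mem_im.1 hy
          have hq' : q ∈ e '' (Q : Set Ω) := heQ.symm ▸ hq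
          obtain ⟨q₀, hq₀, rfl⟩ := hq'
          refine ⟨⟨thFun θ q₀, Subgroup.mem_sup_right (mem_im.2 ⟨q₀, hq₀, hQS hq₀, rfl⟩)⟩, ?_⟩
          rw [hηe, hgi q₀ (hQpre P hq₀)]
      have heimg := h.img_pre (mor_of_sub h.lift_sub he) (h.Z_le_pre _) hgi
        (by rw [h.im_pre hPQ']; exact hgimg)
      obtain ⟨k, hk, hkl, hkr, hkimg⟩ := he.exists_inv heimg
      have hkQ : k '' (Q : Set Ω) = Q := by
        conv_lhs => rw [← heQ]
        exact Generated.image_image_eq fun x hx => hkl x (hQpre P hx)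
      refine ⟨k, hk, fun y hy hy' => ?_, hkQ, fun r hr' => ?_⟩
      · obtain ⟨x, hx⟩ := hr.ge hy'
        obtain ⟨z, hz, hzx⟩ := h.th_surj (hPS' x.2)
        have hz' : z ∈ preimageAlong θ (P ⊔ Q') :=
          mem_pre.2 ⟨hz, Subgroup.mem_sup_left (hzx.symm ▸ x.2)⟩
        have h1 : thFun θ (e z) = thFun θ y := by
          rw [← hei z hz' (hzx.symm ▸ x.2), ← hx]
          exact congrArg φ (Subtype.ext hzx)
        have h2 : thFun θ (k y) = (x : Ω') := by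
          obtain ⟨g', hg', hgi'⟩ := h.exists_red (mor_of_sub h.lift_sub hk)
          have hez : e z ∈ preimageAlong θ (R ⊔ Q') :=
            himgC hPS' he hei heQ (fun w => hr.le ⟨w, rfl⟩) z hz'
          rw [← hgi' y hy, ← h1, hgi' _ hez, hkl z hz', hzx]
        rw [h2]
        have hxy : φ x ∈ R := hr.le ⟨x, rfl⟩
        rw [← hl x hxy]
        exact congrArg ψ (Subtype.ext hx.symm)
      · obtain ⟨r₁, -, hr₁⟩ := mor_aut_apply (he.restrict (hQpre P)) heQ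
        have e1 : r = r₁⁻¹ := MulEquiv.ext fun x => r₁.injective (Subtype.ext (by
          rw [MulAut.inv_apply, MulEquiv.apply_symm_apply, hr₁, hr',
            hkr _ (hQpre R x.2)]))
        rw [e1]
        exact Subgroup.inv_mem _ (heB r₁ hr₁)
  -- apply it to the map induced by `f`
  obtain ⟨g, hgi0⟩ := (h.mor_pull_iff.1 (mor_of_sub h.lift_sub_pull hf)).2
  obtain ⟨hg, hgi⟩ := hgi0
  have hQD' : Q' ≤ imageAlong θ D := h.im_mono hQD
  have hfF := mor_of_sub h.lift_sub hf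
  have hgQ : g '' (Q' : Set Ω') = Q' :=
    h.img_red (fun x hx => hgi x (hQD hx)) hQS hQS hfQ
  obtain ⟨φ', hφ', hφ'e⟩ := hg
  have hD'N : imageAlong θ D ≤ normalizerIn T' Q' := by
    intro y hy
    obtain ⟨d, hd, hdS, rfl⟩ := mem_im.1 hy
    refine ⟨(mem_pre.1 (hDT hd)).2, Subgroup.mem_normalizer_fintype fun n hnn => ?_⟩
    obtain ⟨q, hq, hqS, rfl⟩ := mem_im.1 hnn
    exact mem_im.2 ⟨d * q * d⁻¹, conj_mem_of_normalizer (hD hd).2 hq,
      hQS (conj_mem_of_normalizer (hD hd).2 hq), thFun_conj θ hdS hqS⟩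
  have hg' : Mor E' (imageAlong θ D) g := ⟨φ', hφ', hφ'e⟩
  have hφN : φ' ∈ N.Hom (imageAlong θ D) := by
    refine ⟨hφ', hD'N, fun x => ?_, φ'.comp (Subgroup.inclusion (sup_le le_rfl hQD')),
      restrict_mem E' hφ' _, fun x => rfl, ?_⟩
    · rw [hφ'e x]
      exact ⟨hg'.mem x.2, (hg'.map_normalizer hQD' hgQ x.2 (hD'N x.2).2).2⟩
    · ext y
      constructor
      · rintro ⟨z, hz, rfl⟩
        show φ' _ ∈ Q'
        rw [hφ'e]
        show _ ∈ (Q' : Set Ω')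
        rw [← hgQ]
        exact ⟨z, hz, rfl⟩
      · intro hy
        have hy' : y ∈ g '' (Q' : Set Ω') := hgQ.symm ▸ hy
        obtain ⟨z, hz, rfl⟩ := hy'
        exact ⟨⟨z, Subgroup.mem_sup_right hz⟩, hz, hφ'e _⟩
  obtain ⟨e, he, hei, heQ, heB⟩ := hkey hφN
  rw [sup_eq_left.2 hQD', h.pre_im hDS hZD] at he hei
  obtain ⟨R, hR, hRS⟩ := hfF.exists_img le_rfl
  have hgR := h.img_red hgi hDS hRS hR
  have hZR : Z ≤ R := fun z hz => by
    show _ ∈ (R : Set Ω); rw [← hR]; exact ⟨z, hZD hz, h.fixZ hfF (hZD hz) hz⟩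
  have hind : Ind θ D e g := fun x hx => by
    have hx' : thFun θ x ∈ imageAlong θ D := mem_im.2 ⟨x, hx, hDS hx, rfl⟩
    rw [← hei x hx hx', hφ'e]
  have heR := h.img_pre (mor_of_sub h.lift_sub he) hZD hind hgR
  rw [h.pre_im hRS hZR] at heR
  obtain ⟨fi, hfi, hfil, hfir, hfiimg⟩ := hf.exists_inv hR
  have hem : ∀ x ∈ D, e x ∈ R := fun x hx => by
    show _ ∈ (R : Set Ω); rw [← heR]; exact ⟨x, hx, rfl⟩
  have hk : Mor (liftSys h) D (fi ∘ e) := he.comp hfi hem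
  have : Finite D := finite_of_le hDS
  have hkD : ∀ x ∈ D, (fi ∘ e) x ∈ D := fun x hx => by
    show _ ∈ (D : Set Ω); rw [← hfiimg]; exact ⟨e x, hem x hx, rfl⟩
  obtain ⟨κ, hκ, hκe⟩ := mor_aut_apply hk (image_eq hk hkD)
  obtain ⟨d, hd⟩ := K.ih D (K.cen_of_le hQD hDT) (K.lt_card hQD hDS hne) κ hκ fun x => by
    have h1 : g (thFun θ ((κ x : D) : Ω)) = g (thFun θ x) := by
      rw [hgi _ (κ x).2, hκe]
      show thFun θ (f (fi (e x))) = _
      rw [hfir _ (hem x x.2), hind x x.2]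
    exact hg'.injOn (mem_im.2 ⟨_, (κ x).2, hDS (κ x).2, rfl⟩)
      (mem_im.2 ⟨x, x.2, hDS x.2, rfl⟩) h1
  obtain ⟨r₁, -, hr₁⟩ := mor_aut_apply (he.restrict hQD) heQ
  have hdQ : (d : Ω) ∈ Subgroup.normalizer (Q : Set Ω) := (hD d.2).2
  have hrr : r₁ = r * conjAut hdQ := MulEquiv.ext fun x => Subtype.ext (by
    rw [hr₁, MulAut.mul_apply, hr, conjAut_apply]
    have h1 : ((κ (Subgroup.inclusion hQD x) : D) : Ω) = d * (x : Ω) * (d : Ω)⁻¹ := by
      rw [← hd]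
      rfl
    rw [hκe] at h1
    rw [← h1]
    show e x = f (fi (e x))
    rw [hfir _ (hem x (hQD x.2))])
  have hd' : conjAut hdQ ∈ B := K.autT (conjAut_mem_autInducedBy hdQ (hDT d.2))
  have : r = r₁ * (conjAut hdQ)⁻¹ := by rw [hrr, mul_inv_cancel_right]
  rw [this]
  exact mul_mem (heB r₁ hr₁) (Subgroup.inv_mem _ hd')

/-- The automizer of the generated system is balanced. -/
theorem aut_le : (liftSys h).autGroup Q ≤ B := by
  classical
  have hQT := K.hQT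
  have hQS := K.cen.2.1
  have hTS := h.pre_le T'
  have : Finite (preimageAlong θ T') := finite_of_le hTS
  have : Finite Q := finite_of_le hQS
  intro a ha
  obtain ⟨fa, hfa, hfae, hfaimg⟩ := exists_mor_of_aut hQT ⟨a, ha⟩
  by_cases htop : Q = preimageAlong θ T'
  · let W : Cfsg.FusionSystem (preimageAlong θ T') :=
      { Hom := fun P => {φ | φ ∈ (liftSys h).Hom P ∧
          ∀ r : MulAut Q, (∀ (x : Q) (hx : (x : Ω) ∈ P), ((r x : Q) : Ω) = φ ⟨x, hx⟩) →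
            Q ≤ P → r ∈ B}
        le_of_mem := fun hφ => (liftSys h).le_of_mem hφ.1
        injective_of_mem := fun hφ => (liftSys h).injective_of_mem hφ.1
        conj_mem := by
          intro P t hP ht
          refine ⟨(liftSys h).conj_mem hP ht, fun r hr hQP => K.autT
            (mem_autInducedBy_iff.2 ⟨t, ht, fun x => (hr x (hQP x.2)).trans rfl⟩)⟩
        comp_mem := by
          intro P R φ ψ hφ hψ hh
          refine ⟨(liftSys h).comp_mem hφ.1 hψ.1 hh, fun r hr hQP => ?_⟩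
          obtain ⟨f, hf, hfe⟩ := exists_mor hφ.1
          have hfQ : f '' (Q : Set Ω) = Q := image_eq (hf.restrict hQP) fun x hx =>
            htop.symm ▸ hf.mem (hQP hx)
          obtain ⟨r₁, -, hr₁⟩ := mor_aut_apply (hf.restrict hQP) hfQ
          have hQR : Q ≤ R := fun y hy => by
            have hy' : y ∈ f '' (Q : Set Ω) := hfQ.symm ▸ hy
            obtain ⟨x, hx, rfl⟩ := hy'
            rw [hfe ⟨x, hQP hx⟩]
            exact hh _
          obtain ⟨k, hk, hke⟩ := exists_mor hψ.1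
          have hkQ : k '' (Q : Set Ω) = Q := image_eq (hk.restrict hQR) fun x hx =>
            htop.symm ▸ hk.mem (hQR hx)
          obtain ⟨r₂, -, hr₂⟩ := mor_aut_apply (hk.restrict hQR) hkQ
          have e1 : r = r₂ * r₁ := MulEquiv.ext fun x => Subtype.ext (by
            rw [hr x (hQP x.2), MulAut.mul_apply, hr₂, hr₁]
            show ψ ⟨φ ⟨x, _⟩, _⟩ = k (f x)
            rw [hfe ⟨x, hQP x.2⟩]
            exact (hke ⟨_, hh _⟩).symm)
          rw [e1]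
          refine mul_mem (hψ.2 r₂ (fun x hx => (hr₂ x).trans (hke ⟨x, hx⟩)) hQR)
            (hφ.2 r₁ (fun x hx => (hr₁ x).trans (hfe ⟨x, hx⟩)) hQP)
        inv_mem := by
          intro P φ hφ
          obtain ⟨ψ, hψ, hψe⟩ := (liftSys h).inv_mem hφ.1
          refine ⟨ψ, ⟨hψ, fun r hr hQR => ?_⟩, hψe⟩
          have hQP : Q ≤ P := by
            have hPT := hom_le _ hφ.1
            have hc1 : Nat.card φ.range = Nat.card P :=
              (isConj_card (isConj_of_hom _ hφ.1)).symm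
            have hR : φ.range = Q :=
              le_antisymm (htop.symm ▸ range_le _ hφ.1) hQR
            have : Finite P := finite_of_le (hPT.trans hTS)
            have hPQ : P ≤ Q := htop.symm ▸ hPT
            exact (Subgroup.eq_of_le_of_card_ge hPQ (by rw [← hc1, hR])).ge
          obtain ⟨f, hf, hfe⟩ := exists_mor hφ.1
          have hfQ : f '' (Q : Set Ω) = Q := image_eq (hf.restrict hQP) fun x hx =>
            htop.symm ▸ hf.mem (hQP hx)
          obtain ⟨r₁, -, hr₁⟩ := mor_aut_apply (hf.restrict hQP) hfQ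
          have hm : ∀ x : Q, f x ∈ Q := fun x => by
            show _ ∈ (Q : Set Ω); rw [← hfQ]; exact ⟨x, x.2, rfl⟩
          have e1 : r * r₁ = 1 := MulEquiv.ext fun x => Subtype.ext (by
            rw [MulAut.mul_apply, hr _ (hQR (r₁ x).2)]
            refine Eq.trans ?_ (hψe ⟨x, hQP x.2⟩)
            refine congrArg ψ (Subtype.ext ?_)
            show ((r₁ x : Q) : Ω) = _
            rw [hr₁, hfe ⟨x, hQP x.2⟩])
          rw [eq_inv_of_mul_eq_one_left e1]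
          exact Subgroup.inv_mem _ (hφ.2 r₁ (fun x hx => (hr₁ x).trans (hfe ⟨x, hx⟩)) hQP) }
    have hW : HasGens h W := by
      intro M hM b hb hcop
      refine ⟨(h.hasGens_lift M hM b hb hcop), fun r hr hQM => ?_⟩
      have hMQ : M = Q := le_antisymm (htop.symm ▸ h.cen_le hM) hQM
      subst hMQ
      rw [show r = b from MulEquiv.ext fun x => Subtype.ext (hr x x.2)]
      exact K.coprime b hb hcop
    exact (h.lift_le hW Q ((mem_autGroup_iff _ hQT).1 ha)).2 a (fun x hx => rfl) le_rfl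
  -- links to `Q`
  let Link : Subgroup Ω → (Ω → Ω) → Prop := fun Q₁ χ =>
    Mor (liftSys h) (normalizerIn (preimageAlong θ T') Q₁) χ ∧
      Q₁ ≤ preimageAlong θ T' ∧ χ '' (Q₁ : Set Ω) = Q
  have hcardQ : ∀ {Q₁ χ}, Link Q₁ χ → Nat.card Q₁ = Nat.card Q := fun {Q₁ χ} hl =>
    (hl.1.card_img (le_normalizerIn hl.2.1) hl.2.2).symm
  -- the basic case
  have hext : ∀ {M : Subgroup Ω} {f : Ω → Ω}, Mor (liftSys h) M f → ∀ {Q₁ Q₂ : Subgroup Ω},
      Q₁ ≤ M → M ≠ Q₁ → f '' (Q₁ : Set Ω) = Q₂ → ∀ {χ χ' : Ω → Ω}, Link Q₁ χ → Link Q₂ χ' →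
      ∀ r : MulAut Q, (∀ x ∈ Q₁, ∀ hx : χ x ∈ Q, ((r ⟨χ x, hx⟩ : Q) : Ω) = χ' (f x)) → r ∈ B := by
    intro M f hf Q₁ Q₂ hQ₁M hMne hQ₂ χ χ' hχ hχ' r hr
    have hMT : M ≤ preimageAlong θ T' := hf.le
    have : Finite M := finite_of_le (hMT.trans hTS)
    set D₁ := normalizerIn M Q₁ with hD₁
    have hQ₁D : Q₁ ≤ D₁ := le_normalizerIn hQ₁M
    have hD₁N : D₁ ≤ normalizerIn (preimageAlong θ T') Q₁ := fun x hx => ⟨hMT hx.1, hx.2⟩
    obtain ⟨g₀, hg₀, hg₀Q⟩ := exists_normalizing_not_mem (h.hS.to_le (hMT.trans hTS)) hQ₁M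
      fun e => hMne e.symm
    obtain ⟨D, hD, -⟩ := hχ.1.exists_img hD₁N
    obtain ⟨χi, hχi, hχil, hχir, hχiimg⟩ := (hχ.1.restrict hD₁N).exists_inv hD
    have hQD : Q ≤ D := fun y hy => by
      have hy' : y ∈ χ '' (Q₁ : Set Ω) := hχ.2.2.symm ▸ hy
      obtain ⟨x, hx, rfl⟩ := hy'
      show _ ∈ (D : Set Ω); rw [← hD]; exact ⟨x, hQ₁D hx, rfl⟩
    have hDN : D ≤ normalizerIn (preimageAlong θ T') Q := fun y hy => by
      have hy' : y ∈ χ '' (D₁ : Set Ω) := hD ▸ hy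
      obtain ⟨x, hx, rfl⟩ := hy'
      exact ⟨hχ.1.mem (hD₁N hx),
        (hχ.1.map_normalizer (le_normalizerIn hχ.2.1) hχ.2.2 (hD₁N hx) hx.2).2⟩
    have hDne : D ≠ Q := fun e => by
      have h1 := hχ.1.card_img hD₁N hD
      rw [e, ← hcardQ hχ] at h1
      have : Finite D₁ := finite_of_le ((normalizerIn_le Q₁).trans (hMT.trans hTS))
      exact hg₀Q ((Subgroup.eq_of_le_of_card_ge hQ₁D h1.ge).ge hg₀)
    have hχiD : ∀ y ∈ D, χi y ∈ D₁ := fun y hy => by
      show _ ∈ (D₁ : Set Ω); rw [← hχiimg]; exact ⟨y, hy, rfl⟩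
    have hfD : ∀ y ∈ D₁, f y ∈ normalizerIn (preimageAlong θ T') Q₂ := fun y hy =>
      ⟨hf.mem hy.1, (hf.map_normalizer hQ₁M hQ₂ hy.1 hy.2).2⟩
    have hG : Mor (liftSys h) D (χ' ∘ (f ∘ χi)) :=
      (hχi.comp hf fun y hy => (hχiD y hy).1).comp hχ'.1 fun y hy => hfD _ (hχiD y hy)
    have hχiQ : χi '' (Q : Set Ω) = Q₁ := by
      conv_lhs => rw [← hχ.2.2]
      exact Generated.image_image_eq fun x hx => hχil x (hQ₁D hx)
    refine K.star hQD hDN hDne hG ?_ fun y => ?_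
    · rw [Set.image_comp, Set.image_comp, hχiQ, hQ₂, hχ'.2.2]
    · obtain ⟨y, hy⟩ := y
      have hy' : y ∈ χ '' (Q₁ : Set Ω) := hχ.2.2.symm ▸ hy
      obtain ⟨x, hx, rfl⟩ := hy'
      show _ = χ' (f (χi (χ x)))
      rw [hχil x (hQ₁D hx)]
      exact hr x hx hy
  have hneT : ∀ {Q₁ χ}, Link Q₁ χ → preimageAlong θ T' ≠ Q₁ := fun {Q₁ χ} hl e => htop
    (Subgroup.eq_of_le_of_card_ge hQT (by rw [← hcardQ hl, ← e]))
  have hlink : ∀ {Q₁ Q₂ : Subgroup Ω} {χ f : Ω → Ω}, Link Q₁ χ → Mor (liftSys h) Q₁ f →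
      f '' (Q₁ : Set Ω) = Q₂ → ∃ χ', Link Q₂ χ' := by
    intro Q₁ Q₂ χ f hχ hf hQ₂
    have := h.finite_T'
    have hQ₂T : Q₂ ≤ preimageAlong θ T' := h.img_le_T (mor_of_sub h.lift_sub hf) hχ.2.1 hQ₂
    obtain ⟨hF₁, g₁, hg₁, hg₁i⟩ := h.mor_pull_iff.1 (mor_of_sub h.lift_sub_pull hf)
    have hg₁img := h.img_red hg₁i (hχ.2.1.trans hTS) (hQ₂T.trans hTS) hQ₂
    obtain ⟨hF₂, g₂, hg₂, hg₂i⟩ := h.mor_pull_iff.1
      (mor_of_sub h.lift_sub_pull (hχ.1.restrict (le_normalizerIn hχ.2.1)))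
    have hg₂img := h.img_red hg₂i (hχ.2.1.trans hTS) hQS hχ.2.2
    have hconj : E'.IsConj (imageAlong θ Q₂) (imageAlong θ Q) :=
      isConj_trans (isConj_symm (hg₁.isConj hg₁img)) (hg₂.isConj hg₂img)
    obtain ⟨φ, hφ, hφr, ψ, hψ, hψe⟩ :=
      exists_normalizer_map_fn h.pgroup_T' h.hN.1.1 (h.fn_im hQT K.cen.1 K.fn) hconj
    obtain ⟨k, hk, hke⟩ := exists_mor hψ
    obtain ⟨χ', hχ', hχ'i⟩ := h.exists_lift_E hk
    have hQ₂' : imageAlong θ Q₂ ≤ normalizerIn T' (imageAlong θ Q₂) :=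
      le_normalizerIn (h.im_le_T hQ₂T)
    have hle : normalizerIn (preimageAlong θ T') Q₂ ≤
        preimageAlong θ (normalizerIn T' (imageAlong θ Q₂)) := by
      intro x hx
      refine mem_pre.2 ⟨hTS hx.1, (mem_pre.1 hx.1).2, ?_⟩
      have : Finite (imageAlong θ Q₂) := finite_of_le (h.im_le_T hQ₂T)
      refine Subgroup.mem_normalizer_fintype fun n hn => ?_
      obtain ⟨q, hq, hqS, rfl⟩ := mem_im.1 hn
      exact mem_im.2 ⟨x * q * x⁻¹, conj_mem_of_normalizer hx.2 hq,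
        (hQ₂T.trans hTS) (conj_mem_of_normalizer hx.2 hq), thFun_conj θ (hTS hx.1) hqS⟩
    refine ⟨χ', hχ'.restrict hle, hQ₂T, ?_⟩
    have hZQ₂ : Z ≤ Q₂ := fun z hz => by
      have hzQ : z ∈ χ '' (Q₁ : Set Ω) := hχ.2.2.symm ▸ K.cen.1 hz
      obtain ⟨x, hx, hxz⟩ := hzQ
      obtain ⟨χi, hχi, hχil, -, hχimg⟩ :=
        (hχ.1.restrict (le_normalizerIn hχ.2.1)).exists_inv hχ.2.2
      have h1 : χi z = z := h.fixZ (mor_of_sub h.lift_sub hχi) (K.cen.1 hz) hz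
      rw [← hxz, hχil x hx] at h1
      have hzQ₁ : z ∈ Q₁ := hxz ▸ h1 ▸ hx
      show _ ∈ (Q₂ : Set Ω)
      rw [← hQ₂]
      exact ⟨z, hzQ₁, h.fixZ (mor_of_sub h.lift_sub hf) hzQ₁ hz⟩
    have hQ₂pre : Q₂ ≤ preimageAlong θ (normalizerIn T' (imageAlong θ Q₂)) :=
      (le_normalizerIn hQ₂T).trans hle
    have himg := h.img_pre ((mor_of_sub h.lift_sub hχ').restrict hQ₂pre) hZQ₂
      (fun x hx => hχ'i x (hQ₂pre hx)) (Q' := imageAlong θ Q) (by
        rw [← hφr]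
        ext y
        constructor
        · rintro ⟨x, hx, rfl⟩
          exact ⟨⟨x, hx⟩, ((hke ⟨x, hQ₂' hx⟩).trans (hψe ⟨x, hx⟩ (hQ₂' hx))).symm⟩
        · rintro ⟨x, rfl⟩
          exact ⟨x, x.2, (hke ⟨x, hQ₂' x.2⟩).trans (hψe x (hQ₂' x.2))⟩)
    rwa [h.pre_im hQS K.cen.1] at himg
  let W : Cfsg.FusionSystem (preimageAlong θ T') :=
    { Hom := fun P => {φ | φ ∈ (liftSys h).Hom P ∧ ∀ (f : Ω → Ω) (_ : ∀ x : P, f x = φ x)
        (Q₁ Q₂ : Subgroup Ω) (χ χ' : Ω → Ω), Q₁ ≤ P → f '' (Q₁ : Set Ω) = Q₂ →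
        Link Q₁ χ → Link Q₂ χ' → ∀ r : MulAut Q,
          (∀ x ∈ Q₁, ∀ hx : χ x ∈ Q, ((r ⟨χ x, hx⟩ : Q) : Ω) = χ' (f x)) → r ∈ B}
      le_of_mem := fun hφ => (liftSys h).le_of_mem hφ.1
      injective_of_mem := fun hφ => (liftSys h).injective_of_mem hφ.1
      conj_mem := by
        intro P t hP ht
        refine ⟨(liftSys h).conj_mem hP ht, fun f hf Q₁ Q₂ χ χ' hQ₁ hQ₂ hχ hχ' r hr => ?_⟩
        have hfc : ∀ x ∈ Q₁, f x = t * x * t⁻¹ := fun x hx => (hf ⟨x, hQ₁ hx⟩).trans rfl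
        refine hext (mor_conj le_rfl ht) hχ.2.1 (hneT hχ)
          ((Set.image_congr fun x hx => (hfc x hx).symm).trans hQ₂) hχ hχ' r
          fun x hx hx' => (hr x hx hx').trans ?_
        rw [hfc x hx]
      comp_mem := by
        intro P R φ ψ hφ hψ hh
        refine ⟨(liftSys h).comp_mem hφ.1 hψ.1 hh, fun f hf Q₁ Q₃ χ χ' hQ₁ hQ₃ hχ hχ' r hr => ?_⟩
        obtain ⟨f₁, hf₁, hf₁e⟩ := exists_mor hφ.1
        obtain ⟨f₂, hf₂, hf₂e⟩ := exists_mor hψ.1
        obtain ⟨Q₂, hQ₂, -⟩ := (mor_of_sub h.lift_sub hf₁).exists_img hQ₁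
        obtain ⟨χ₂, hχ₂⟩ := hlink hχ (hf₁.restrict hQ₁) hQ₂
        have hQ₂R : Q₂ ≤ R := fun y hy => by
          have hy' : y ∈ f₁ '' (Q₁ : Set Ω) := hQ₂ ▸ hy
          obtain ⟨x, hx, rfl⟩ := hy'
          rw [hf₁e ⟨x, hQ₁ hx⟩]
          exact hh _
        have hff : ∀ x ∈ Q₁, f x = f₂ (f₁ x) := fun x hx => by
          rw [hf ⟨x, hQ₁ hx⟩]
          show ψ _ = _
          rw [← hf₂e, hf₁e ⟨x, hQ₁ hx⟩]
          rfl
        have hQ₃' : f₂ '' (Q₂ : Set Ω) = Q₃ := by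
          rw [← hQ₂, ← Set.image_comp, ← hQ₃]
          exact Set.image_congr fun x hx => (hff x hx).symm
        -- the two automorphisms
        obtain ⟨χi, hχi, hχil, -, hχimg⟩ :=
          (hχ.1.restrict (le_normalizerIn hχ.2.1)).exists_inv hχ.2.2
        have hχim : ∀ y ∈ Q, χi y ∈ Q₁ := fun y hy => by
          show _ ∈ (Q₁ : Set Ω); rw [← hχimg]; exact ⟨y, hy, rfl⟩
        have hf₁m : ∀ x ∈ Q₁, f₁ x ∈ Q₂ := fun x hx => by
          show _ ∈ (Q₂ : Set Ω); rw [← hQ₂]; exact ⟨x, hx, rfl⟩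
        obtain ⟨r₁, -, hr₁⟩ := mor_aut_apply
          ((hχi.comp (hf₁.restrict hQ₁) hχim).comp hχ₂.1
            fun y hy => le_normalizerIn hχ₂.2.1 (hf₁m _ (hχim y hy))) (by
            rw [Set.image_comp, Set.image_comp, hχimg, hQ₂, hχ₂.2.2])
        set r₂ : MulAut Q := r * r₁⁻¹ with hr₂
        have hB₁ : r₁ ∈ B := hφ.2 f₁ hf₁e Q₁ Q₂ χ χ₂ hQ₁ hQ₂ hχ hχ₂ r₁ fun x hx hx' => by
          rw [hr₁]
          show χ₂ (f₁ (χi (χ x))) = _
          rw [hχil x hx]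
        have hB₂ : r₂ ∈ B := hψ.2 f₂ hf₂e Q₂ Q₃ χ₂ χ' hQ₂R hQ₃' hχ₂ hχ' r₂ fun y hy hy' => by
          have hy2 : y ∈ f₁ '' (Q₁ : Set Ω) := hQ₂.symm ▸ hy
          obtain ⟨x, hx, rfl⟩ := hy2
          have hxQ : χ x ∈ Q := by
            show _ ∈ (Q : Set Ω); rw [← hχ.2.2]; exact ⟨x, hx, rfl⟩
          have e1 : r₁ ⟨χ x, hxQ⟩ = ⟨χ₂ (f₁ x), hy'⟩ := Subtype.ext (by
            rw [hr₁]
            show χ₂ (f₁ (χi (χ x))) = _
            rw [hχil x hx])
          rw [hr₂, ← e1, MulAut.mul_apply, MulAut.inv_apply_self, hr x hx hxQ, hff x hx]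
        have : r = r₂ * r₁ := by rw [hr₂, inv_mul_cancel_right]
        rw [this]
        exact mul_mem hB₂ hB₁
      inv_mem := by
        intro P φ hφ
        obtain ⟨ψ, hψ, hψe⟩ := (liftSys h).inv_mem hφ.1
        refine ⟨ψ, ⟨hψ, fun f hf Q₁ Q₂ χ χ' hQ₁ hQ₂ hχ hχ' r hr => ?_⟩, hψe⟩
        obtain ⟨f₁, hf₁, hf₁e⟩ := exists_mor hφ.1
        have hback : ∀ y ∈ Q₁, f₁ (f y) = y ∧ f y ∈ P := by
          intro y hy
          obtain ⟨x, hx⟩ := hQ₁ hy
          have h1 : f y = (x : Ω) := by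
            rw [hf ⟨y, hQ₁ hy⟩, ← hψe x]
            exact congrArg ψ (Subtype.ext hx.symm)
          rw [h1]
          exact ⟨(hf₁e x).trans hx, x.2⟩
        have hQ₂P : Q₂ ≤ P := fun y hy => by
          have hy' : y ∈ f '' (Q₁ : Set Ω) := hQ₂ ▸ hy
          obtain ⟨x, hx, rfl⟩ := hy'
          exact (hback x hx).2
        have hQ₁' : f₁ '' (Q₂ : Set Ω) = Q₁ := by
          rw [← hQ₂]
          exact Generated.image_image_eq fun x hx => (hback x hx).1
        have := hφ.2 f₁ hf₁e Q₂ Q₁ χ' χ hQ₂P hQ₁' hχ' hχ r⁻¹ fun x hx hx' => by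
          have hx2 : x ∈ f '' (Q₁ : Set Ω) := hQ₂.symm ▸ hx
          obtain ⟨y, hy, rfl⟩ := hx2
          rw [(hback y hy).1]
          have hyQ : χ y ∈ Q := by
            show _ ∈ (Q : Set Ω); rw [← hχ.2.2]; exact ⟨y, hy, rfl⟩
          have e1 : r ⟨χ y, hyQ⟩ = ⟨χ' (f y), hx'⟩ := Subtype.ext (hr y hy hyQ)
          rw [← e1, MulAut.inv_apply_self]
        simpa using Subgroup.inv_mem _ this }
  have hW : HasGens h W := by
    intro M hM b hb hcop
    have hMT := h.cen_le hM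
    refine ⟨h.hasGens_lift M hM b hb hcop, fun f hf Q₁ Q₂ χ χ' hQ₁ hQ₂ hχ hχ' r hr => ?_⟩
    obtain ⟨f₀, hf₀, hf₀e⟩ := exists_mor (h.hasGens_lift M hM b hb hcop)
    have hfeq : ∀ x ∈ M, f x = f₀ x := fun x hx => (hf ⟨x, hx⟩).trans (hf₀e ⟨x, hx⟩).symm
    have hfL : Mor (liftSys h) M f := hf₀.congr hfeq
    by_cases hMQ : M = Q₁
    swap
    · exact hext hfL hQ₁ hMQ hQ₂ hχ hχ' r hr
    subst hMQ
    have hbM : f '' (M : Set Ω) = M := by
      have : Finite M := finite_of_le (hMT.trans hTS)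
      exact image_eq hfL fun x hx => by
        rw [hf ⟨x, hx⟩]; exact SetLike.coe_mem _
    have hQ₂M : Q₂ = M := SetLike.coe_injective (hQ₂.symm.trans hbM)
    subst Q₂
    -- the conjugate of `b`
    have hres := hχ.1.restrict (le_normalizerIn hχ.2.1)
    obtain ⟨χi, hχi, hχil, -, hχimg⟩ := hres.exists_inv hχ.2.2
    obtain ⟨η, hη, hηe⟩ := mor_of_sub h.lift_sub hres
    have hηr : η.range = Q := SetLike.coe_injective (by
      rw [← hχ.2.2]
      ext y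
      constructor
      · rintro ⟨x, rfl⟩; exact ⟨x, x.2, (hηe x).symm⟩
      · rintro ⟨x, hx, rfl⟩; exact ⟨⟨x, hx⟩, hηe _⟩)
    set b' : MulAut Q := MulAut.congr (isoOf hη hηr) b with hb'
    have hb'A : b' ∈ (pullSys h).autGroup Q := by
      obtain ⟨fb, hfb, hfbe, -⟩ := exists_mor_of_aut hMT (⟨b, hb⟩ : (pullSys h).autGroup M)
      obtain ⟨fb', ⟨ξ, hξ, hξe⟩, hfb'e⟩ := mor_transport h.pull_strong
        (mor_of_sub h.lift_sub hres) hMT hfb le_rfl
        (fun x hx => (hfbe ⟨x, hx⟩).symm ▸ SetLike.coe_mem _) hχ.2.2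
      refine mem_autGroup_of_apply _ hξ fun y => ?_
      obtain ⟨x, rfl⟩ := (isoOf hη hηr).surjective y
      show (((isoOf hη hηr) (b ((isoOf hη hηr).symm (isoOf hη hηr x))) : Q) : Ω) = _
      rw [MulEquiv.symm_apply_apply, isoOf_apply, hηe, hξe, isoOf_apply, hηe, hfb'e x x.2,
        hfbe x]
    have hB' : b' ∈ B := K.coprime b' hb'A (by rw [hb', MulEquiv.orderOf_eq]; exact hcop)
    have hne : normalizerIn (preimageAlong θ T') M ≠ M := fun e => by
      obtain ⟨g₀, hg₀, hg₀M⟩ := exists_normalizing_not_mem (h.hS.to_le hTS) hχ.2.1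
        (hneT hχ).symm
      exact hg₀M (e ▸ hg₀)
    have hB₂ : r * b'⁻¹ ∈ B := by
      refine hext (mor_id (normalizerIn_le M)) (le_normalizerIn hχ.2.1) hne (Set.image_id _)
        hχ hχ' _ fun x hx hx' => ?_
      set y : M := b.symm ⟨x, hx⟩ with hy
      have hby : b y = ⟨x, hx⟩ := MulEquiv.apply_symm_apply _ _
      have hyQ : χ y ∈ Q := by
        show _ ∈ (Q : Set Ω); rw [← hχ.2.2]; exact ⟨y, y.2, rfl⟩
      have e1 : b' ⟨χ y, hyQ⟩ = ⟨χ x, hx'⟩ := by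
        have e2 : (⟨χ y, hyQ⟩ : Q) = isoOf hη hηr y := Subtype.ext (hηe y).symm
        rw [e2]
        refine Subtype.ext ?_
        show (((isoOf hη hηr) (b ((isoOf hη hηr).symm (isoOf hη hηr y))) : Q) : Ω) = _
        rw [MulEquiv.symm_apply_apply, isoOf_apply, hηe, hby]
      rw [← e1, MulAut.mul_apply, MulAut.inv_apply_self, hr y y.2 hyQ, hf y]
      show χ' ((b y : M) : Ω) = _
      rw [hby]
      rfl
    have : r = (r * b'⁻¹) * b' := (inv_mul_cancel_right r b').symm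
    rw [this]
    exact mul_mem hB₂ hB'
  obtain ⟨-, hWa⟩ := h.lift_le hW Q ((mem_autGroup_iff _ hQT).1 ha)
  -- read it with the identity link
  refine hWa fa (fun x => (hfae x)) Q Q id id le_rfl hfaimg
    ⟨mor_id (normalizerIn_le Q), hQT, Set.image_id _⟩
    ⟨mor_id (normalizerIn_le Q), hQT, Set.image_id _⟩ a fun x hx hx' => ?_
  show ((a ⟨x, hx'⟩ : Q) : Ω) = fa x
  rw [hfae ⟨x, hx⟩]

end BalCtx

namespace Setup

variable (h : Setup p F Z θ F' E') [Finite S] [Fact p.Prime]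

include h

/-- The kernel is inner at every subgroup with centric image. -/
theorem mc_all {M : Subgroup Ω} (hM : Cen θ Z E' M) : MC h M := by
  induction hn : Nat.card S - Nat.card M using Nat.strong_induction_on generalizing M with
  | _ n ih =>
    subst hn
    have hMT := h.cen_le hM
    obtain ⟨Q, hMQ, hQ⟩ := exists_fullyNormalized F hM.2.1
    obtain ⟨f, hf, hfimg⟩ := exists_mor_of_isConj hMQ
    have hQc := h.cen_img hM hf hfimg
    have hQT := h.cen_le hQc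
    have ih' : ∀ R, Cen θ Z E' R → Nat.card Q < Nat.card R → MC h R := fun R hR hlt => by
      refine ih _ ?_ hR rfl
      have : Nat.card R ≤ Nat.card S := Subgroup.card_le_of_le hR.2.1
      rw [← isConj_card hMQ] at hlt
      omega
    obtain ⟨B, -, hB₁, hB₂, hB₃⟩ := h.exists_balanced hQc hQ ih'
    have K : BalCtx h Q B := ⟨hQc, hQ, ih', hB₁, hB₂⟩
    intro a ha hker
    have : Finite Q := finite_of_le hQc.2.1
    obtain ⟨e, he, hee, heimg⟩ := exists_mor_of_aut hMT ⟨a, ha⟩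
    obtain ⟨e', he', he'e⟩ := mor_transport h.lift_strong hf hMT he le_rfl
      (fun x hx => (hee ⟨x, hx⟩).symm ▸ SetLike.coe_mem _) hfimg
    have hfm : ∀ x ∈ M, f x ∈ Q := fun x hx => by
      show _ ∈ (Q : Set Ω); rw [← hfimg]; exact ⟨x, hx, rfl⟩
    obtain ⟨b, hb, hbe⟩ := mor_aut_apply he' (image_eq he' fun y hy => by
      have hy' : y ∈ f '' (M : Set Ω) := hfimg ▸ hy
      obtain ⟨x, hx, rfl⟩ := hy'
      rw [he'e x hx]
      exact hfm _ ((hee ⟨x, hx⟩).symm ▸ SetLike.coe_mem _))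
    obtain ⟨g, -, hgi⟩ := h.exists_red hf
    have hbk : b ∈ kerGroup θ Q := fun y => by
      have hy' : (y : Ω) ∈ f '' (M : Set Ω) := hfimg.symm ▸ y.2
      obtain ⟨x, hx, hxy⟩ := hy'
      rw [hbe, ← hxy, he'e x hx, show e x = _ from hee ⟨x, hx⟩, ← hgi _ (SetLike.coe_mem _),
        hker ⟨x, hx⟩, hgi x hx]
    obtain ⟨q, hq⟩ := hB₃ b (K.aut_le hb) hbk
    have hq' : (q : Ω) ∈ f '' (M : Set Ω) := hfimg.symm ▸ q.2
    obtain ⟨m, hm, hmq⟩ := hq'
    refine ⟨⟨m, hm⟩, MulEquiv.ext fun x => Subtype.ext ?_⟩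
    show m * (x : Ω) * m⁻¹ = ((a x : M) : Ω)
    refine hf.injOn (M.mul_mem (M.mul_mem hm x.2) (M.inv_mem hm)) (a x).2 ?_
    rw [hf.map_conj hm x.2, hmq, ← hee x, ← he'e x x.2, ← hbe ⟨f x, hfm x x.2⟩, ← hq]
    rfl

end Setup

end CfsgLib.CentralLift
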