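import Cfsg.Agent.Fus.CentralLift.Lifts
import Cfsg.Agent.Fus.CentricMaps
import Cfsg.Agent.Fus.GroupNormal

/-!
The automorphisms of a subgroup with centric image that are trivial modulo `Z`, and their
centrality modulo inner automorphisms inside the automizer of the pullback.
-/

set_option autoImplicit false
set_option linter.unusedSectionVars false

namespace CfsgLib.CentralLift

open Cfsg Cfsg.FusionSystem CfsgLib.Fus CfsgLib.Fusion.Alperin CfsgLib.NormalCent

variable {Ω : Type*} [Group Ω] {S : Subgroup Ω} {Ω' : Type*} [Group Ω'] {S' T' : Subgroup Ω'}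
  {p : ℕ} {F : Cfsg.FusionSystem S} {Z : Subgroup Ω} {θ : S →* Ω'}
  {F' : Cfsg.FusionSystem S'} {E' : Cfsg.FusionSystem T'}

/-- The automorphisms of `M` trivial modulo `Z`. -/
def kerGroup (θ : S →* Ω') (M : Subgroup Ω) : Subgroup (MulAut M) where
  carrier := {a | IsKer θ a}
  one_mem' := fun _ => rfl
  mul_mem' := fun {a b} ha hb x => (ha (b x)).trans (hb x)
  inv_mem' := fun {a} ha x => by
    have h1 := ha (a⁻¹ x)
    rw [MulAut.inv_apply, MulEquiv.apply_symm_apply] at h1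
    exact h1.symm

/-- The kernel of the generated system at `M` consists of inner automorphisms. -/
def MC (h : Setup p F Z θ F' E') (M : Subgroup Ω) : Prop :=
  ∀ a ∈ (liftSys h).autGroup M, a ∈ kerGroup θ M → a ∈ Cfsg.Inn M

/-- Conjugates of automorphisms in a strongly invariant system. -/
theorem conj_mem_of_strong {T : Subgroup Ω} {E : Cfsg.FusionSystem T} (hs : StrongInvariant E F)
    (hTS : T ≤ S) {Q : Subgroup Ω} (hQ : Q ≤ T) {c a : MulAut Q} (hc : c ∈ F.autGroup Q)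
    (ha : a ∈ E.autGroup Q) : c * a * c⁻¹ ∈ E.autGroup Q := by
  obtain ⟨f, hf, hfe, hfimg⟩ := exists_mor_of_aut (hQ.trans hTS) ⟨c, hc⟩
  obtain ⟨e, he, hee, -⟩ := exists_mor_of_aut hQ ⟨a, ha⟩
  obtain ⟨e', ⟨φ, hφ, hφe⟩, he'⟩ := mor_transport hs hf hQ he le_rfl
    (fun x hx => (hee ⟨x, hx⟩).symm ▸ SetLike.coe_mem _) hfimg
  refine mem_autGroup_of_apply E hφ fun y => ?_
  obtain ⟨x, rfl⟩ := c.surjective y
  rw [hφe, ← hfe x]
  show ((c (a (c⁻¹ (c x))) : Q) : Ω) = _
  rw [MulAut.inv_apply_self, he' x x.2, hee x, ← hfe (a x)]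

theorem commutator_rules {A : Type*} [Group A] {N : Subgroup A} [N.Normal] {a b k : A}
    (ha : a * k * a⁻¹ * k⁻¹ ∈ N) (hb : b * k * b⁻¹ * k⁻¹ ∈ N) :
    (a * b) * k * (a * b)⁻¹ * k⁻¹ ∈ N ∧ a⁻¹ * k * a⁻¹⁻¹ * k⁻¹ ∈ N := by
  constructor
  · have e : (a * b) * k * (a * b)⁻¹ * k⁻¹ =
        (a * (b * k * b⁻¹ * k⁻¹) * a⁻¹) * (a * k * a⁻¹ * k⁻¹) := by group
    rw [e]
    exact N.mul_mem (Subgroup.Normal.conj_mem inferInstance _ hb a) ha
  · have e : a⁻¹ * k * a⁻¹⁻¹ * k⁻¹ = a⁻¹ * (a * k * a⁻¹ * k⁻¹)⁻¹ * a⁻¹⁻¹ := by group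
    rw [e]
    exact Subgroup.Normal.conj_mem inferInstance _ (N.inv_mem ha) a⁻¹

/-- The automorphisms centralizing the kernel modulo inner automorphisms. -/
def centralAuts (F : Cfsg.FusionSystem S) (θ : S →* Ω') (Q : Subgroup Ω) [(Cfsg.Inn Q).Normal] :
    Subgroup (F.autGroup Q) where
  carrier := {a | ∀ k ∈ F.autGroup Q ⊓ kerGroup θ Q,
    (a : MulAut Q) * k * (a : MulAut Q)⁻¹ * k⁻¹ ∈ Cfsg.Inn Q}
  one_mem' := fun k _ => by simp
  mul_mem' := fun {a b} ha hb k hk => (commutator_rules (ha k hk) (hb k hk)).1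
  inv_mem' := fun {a} ha k hk => (commutator_rules (ha k hk) (ha k hk)).2

instance inn_normal (Q : Subgroup Ω) : (Cfsg.Inn Q).Normal := by
  refine ⟨fun a ha c => ?_⟩
  obtain ⟨q, rfl⟩ := ha
  exact ⟨c q, MulEquiv.ext fun x => by simp⟩

namespace Setup

variable (h : Setup p F Z θ F' E') [Finite S] [Fact p.Prime]

include h

theorem ker_conj {Q : Subgroup Ω} (hQS : Q ≤ S) {c k : MulAut Q} (hc : c ∈ F.autGroup Q)
    (hk : k ∈ F.autGroup Q ⊓ kerGroup θ Q) : c * k * c⁻¹ ∈ F.autGroup Q ⊓ kerGroup θ Q := by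
  refine ⟨mul_mem (mul_mem hc hk.1) (Subgroup.inv_mem _ hc), fun y => ?_⟩
  obtain ⟨f, hf, hfe, -⟩ := exists_mor_of_aut hQS ⟨c, hc⟩
  obtain ⟨g, -, hgi⟩ := h.exists_red hf
  obtain ⟨x, rfl⟩ := c.surjective y
  show thFun θ ((c (k (c⁻¹ (c x))) : Q) : Ω) = thFun θ ((c x : Q) : Ω)
  rw [MulAut.inv_apply_self, ← hfe (k x), ← hfe x, ← hgi _ (k x).2, ← hgi _ x.2, hk.2 x]

/-- Two such automorphisms commute. -/
theorem ker_comm {Q : Subgroup Ω} (hQS : Q ≤ S) {a b : MulAut Q}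
    (ha : a ∈ F.autGroup Q ⊓ kerGroup θ Q) (hb : b ∈ F.autGroup Q ⊓ kerGroup θ Q) :
    a * b = b * a := by
  have key : ∀ {c : MulAut Q}, c ∈ F.autGroup Q ⊓ kerGroup θ Q → ∀ x : Q,
      ((x : Ω)⁻¹ * ((c x : Q) : Ω)) ∈ Z := fun {c} hc x =>
    (h.th_eq (hQS x.2) (hQS (c x).2)).1 (hc.2 x).symm
  have fix : ∀ {c : MulAut Q}, c ∈ F.autGroup Q ⊓ kerGroup θ Q → ∀ x : Q, (x : Ω) ∈ Z →
      c x = x := by
    intro c hc x hx
    obtain ⟨f, hf, hfe, -⟩ := exists_mor_of_aut hQS ⟨c, hc.1⟩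
    exact Subtype.ext ((hfe x).symm.trans (h.fixZ hf x.2 hx))
  refine MulEquiv.ext fun x => Subtype.ext ?_
  have h1 : ∀ {c d : MulAut Q}, c ∈ F.autGroup Q ⊓ kerGroup θ Q →
      d ∈ F.autGroup Q ⊓ kerGroup θ Q →
      ((c (d x) : Q) : Ω) = (x : Ω) * ((x : Ω)⁻¹ * ((c x : Q) : Ω)) *
        ((x : Ω)⁻¹ * ((d x : Q) : Ω)) := by
    intro c d hc hd
    have e : c (d x) = c x * c (x⁻¹ * d x) := by rw [← map_mul, mul_inv_cancel_left]
    rw [e, fix hc (x⁻¹ * d x) (key hd x)]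
    simp [mul_assoc]
  show ((a (b x) : Q) : Ω) = ((b (a x) : Q) : Ω)
  rw [h1 ha hb, h1 hb ha, mul_assoc (x : Ω), h.comm (key hb x) (h.Z_le (key ha x)), ← mul_assoc]

/-- The elements of `T` inducing kernel automorphisms induce inner ones. -/
theorem autT_ker {Q : Subgroup Ω} (hQ : Cen θ Z E' Q) {a : MulAut Q}
    (ha : a ∈ Cfsg.autInducedBy (preimageAlong θ T') Q) (hk : a ∈ kerGroup θ Q) :
    a ∈ Cfsg.Inn Q := by
  obtain ⟨t, ht, hat⟩ := mem_autInducedBy_iff.1 ha
  rw [inn_eq_autInducedBy_self]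
  refine mem_autInducedBy_iff.2 ⟨t, h.cen_self hQ ht fun x hx => ?_, hat⟩
  rw [← hat ⟨x, hx⟩]
  exact hk ⟨x, hx⟩

theorem autT_le_lift {Q : Subgroup Ω} (hQ : Q ≤ preimageAlong θ T') :
    Cfsg.autInducedBy (preimageAlong θ T') Q ≤ (liftSys h).autGroup Q :=
  autInducedBy_le_autGroup _ hQ

theorem pull_normal {Q : Subgroup Ω} (hQ : Q ≤ preimageAlong θ T') {c a : MulAut Q}
    (hc : c ∈ F.autGroup Q) (ha : a ∈ (pullSys h).autGroup Q) :
    c * a * c⁻¹ ∈ (pullSys h).autGroup Q :=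
  conj_mem_of_strong h.pull_strong (h.pre_le T') hQ hc ha

theorem lift_normal {Q : Subgroup Ω} (hQ : Q ≤ preimageAlong θ T') {c a : MulAut Q}
    (hc : c ∈ F.autGroup Q) (ha : a ∈ (liftSys h).autGroup Q) :
    c * a * c⁻¹ ∈ (liftSys h).autGroup Q :=
  conj_mem_of_strong h.lift_strong (h.pre_le T') hQ hc ha

/-- An element of `S` acting on `Q` as a map of the pullback acts modulo `Z` as one of `T`. -/
theorem sigma {Q : Subgroup Ω} (hQ : Cen θ Z E' Q) (hn : E'.IsFullyNormalized (imageAlong θ Q))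
    {a : MulAut Q} (ha : a ∈ (pullSys h).autGroup Q) (haS : a ∈ Cfsg.autInducedBy S Q) :
    ∃ b ∈ Cfsg.autInducedBy (preimageAlong θ T') Q, b⁻¹ * a ∈ kerGroup θ Q := by
  have hQT := h.cen_le hQ
  have := h.finite_T'
  obtain ⟨s, hs, has⟩ := mem_autInducedBy_iff.1 haS
  obtain ⟨f, g, hf, hg, hgi, hfe, himg⟩ := h.pull_autGroup hQT ha
  have hgimg := h.img_red hgi hQ.2.1 hQ.2.1 himg
  obtain ⟨c', hc'⟩ := exists_aut_of_mor hg hgimg
  have : Finite (imageAlong θ Q) := finite_of_le hQ.2.2.1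
  have := finite_mulAut (imageAlong θ Q)
  obtain ⟨-, P, hP⟩ := (fullyNormalized_props h.pgroup_T' h.hN.1.1 hn).1
  set X := (Cfsg.autInducedBy S' (imageAlong θ Q)).subgroupOf
    (E'.autGroup (imageAlong θ Q)) with hX
  have hXp : IsPGroup p X :=
    (isPGroup_autInducedBy h.pgroup_S' _).comap_subtype
  have hPX : (P : Subgroup (E'.autGroup (imageAlong θ Q))) ≤ X := by
    rw [hP]
    exact Subgroup.comap_mono (autInducedBy_mono h.T'_le)
  have hcX : c' ∈ X := by
    refine mem_autInducedBy_iff.2 ⟨thFun θ s, h.th_mem hs, fun y => ?_⟩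
    obtain ⟨x, hx, hxS, hxy⟩ := mem_im.1 y.2
    refine (hc' y).trans ?_
    rw [← hxy, hgi x hx, hfe ⟨x, hx⟩, has ⟨x, hx⟩, thFun_conj θ hs hxS]
  rw [P.is_maximal' hXp hPX, hP] at hcX
  obtain ⟨t', ht', hct⟩ := mem_autInducedBy_iff.1 hcX
  obtain ⟨t, ht, rfl⟩ := h.th_surj (h.T'_le ht')
  have htN : t ∈ Subgroup.normalizer (Q : Set Ω) := by
    refine h.normalizer_of_im hQ.2.1 hQ.1 ht fun x hx => ?_
    have h1 := hct ⟨thFun θ x, mem_im.2 ⟨x, hx, hQ.2.1 hx, rfl⟩⟩
    rw [← h1]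
    exact SetLike.coe_mem _
  refine ⟨conjAut htN, conjAut_mem_autInducedBy htN (mem_pre.2 ⟨ht, ht'⟩), fun x => ?_⟩
  have hax : thFun θ ((a x : Q) : Ω) = thFun θ ((conjAut htN x : Q) : Ω) := by
    have hxS := hQ.2.1 x.2
    rw [← hfe x, ← hgi x x.2, conjAut_apply, thFun_conj θ ht hxS]
    exact (hc' ⟨thFun θ x, mem_im.2 ⟨x, x.2, hxS, rfl⟩⟩).symm.trans
      (hct ⟨thFun θ x, mem_im.2 ⟨x, x.2, hxS, rfl⟩⟩)
  set y := (conjAut htN)⁻¹ (a x) with hy
  have h2 : conjAut htN y = a x := by rw [hy, MulAut.inv_apply, MulEquiv.apply_symm_apply]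
  rw [← h2] at hax
  show thFun θ (y : Ω) = thFun θ (x : Ω)
  rw [conjAut_apply, conjAut_apply, thFun_conj θ ht (hQ.2.1 y.2),
    thFun_conj θ ht (hQ.2.1 x.2)] at hax
  exact mul_left_cancel (mul_right_cancel hax)

/-- The restriction to `Q` of an automorphism of a larger subgroup that is trivial modulo `Z` on
`Q` is inner, when the kernel at the larger subgroup is inner. -/
theorem restrict_inn {Q M : Subgroup Ω} (hQ : Cen θ Z E' Q) (hQM : Q ≤ M)
    (hM : M ≤ normalizerIn (preimageAlong θ T') Q) (hMC : MC h M) {x : MulAut M}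
    (hx : x ∈ (liftSys h).autGroup M)
    (hker : ∀ y : M, (y : Ω) ∈ Q → thFun θ ((x y : M) : Ω) = thFun θ y) :
    ∃ q ∈ Q, ∀ y : M, (y : Ω) ∈ Q → ((x y : M) : Ω) = q * (y : Ω) * q⁻¹ := by
  have hMT : M ≤ preimageAlong θ T' := hM.trans (normalizerIn_le Q)
  have hMS : M ≤ S := hMT.trans (h.pre_le T')
  have hxP := autGroup_mono h.lift_sub_pull M hx
  obtain ⟨f, g, hf, hg, hgi, hfe, himg⟩ := h.pull_autGroup hMT hxP
  have hgimg := h.img_red hgi hMS hMS himg
  obtain ⟨c, hc⟩ := exists_aut_of_mor hg hgimg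
  have := h.finite_T'
  have hMN : imageAlong θ M ≤ Subgroup.normalizer (imageAlong θ Q : Set Ω') := by
    intro y hy
    obtain ⟨m, hm, hmS, rfl⟩ := mem_im.1 hy
    have : Finite (imageAlong θ Q) := finite_of_le hQ.2.2.1
    refine Subgroup.mem_normalizer_fintype fun n hn => ?_
    obtain ⟨q, hq, hqS, rfl⟩ := mem_im.1 hn
    exact mem_im.2 ⟨m * q * m⁻¹, conj_mem_of_normalizer (hM hm).2 hq,
      hQ.2.1 (conj_mem_of_normalizer (hM hm).2 hq), thFun_conj θ hmS hqS⟩
  obtain ⟨z', hz'Q, -, hz'⟩ := aut_fixing_centric h.pgroup_T' h.hN.1.1 (h.im_le_T hMT)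
    (h.im_mono hQM) hMN hQ.2.2 (α := (c : MulAut _)) c.2 (fun y hy => Subtype.ext (by
      obtain ⟨q, hq, hqS, hqy⟩ := mem_im.1 hy
      rw [hc, ← hqy, hgi q (hQM hq), hfe ⟨q, hQM hq⟩]
      exact hker ⟨q, hQM hq⟩ hq))
  obtain ⟨z, hz, hzS, hzz⟩ := mem_im.1 hz'Q
  have hzN : z ∈ Subgroup.normalizer (M : Set Ω) := Subgroup.le_normalizer (hQM hz)
  have hzM : conjAut hzN ∈ (liftSys h).autGroup M :=
    h.autT_le_lift hMT (conjAut_mem_autInducedBy hzN (hMT (hQM hz)))
  obtain ⟨m, hm⟩ := hMC _ (mul_mem (inv_mem hzM) hx) (fun y => by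
    have hyM : thFun θ (y : Ω) ∈ imageAlong θ M := mem_im.2 ⟨y, y.2, hMS y.2, rfl⟩
    set w := (conjAut hzN)⁻¹ (x y) with hw
    have h2 : conjAut hzN w = x y := by rw [hw, MulAut.inv_apply, MulEquiv.apply_symm_apply]
    have h1 : thFun θ ((x y : M) : Ω) = thFun θ z * thFun θ y * (thFun θ z)⁻¹ := by
      rw [← hfe y, ← hgi y y.2, ← hc ⟨_, hyM⟩, hz' ⟨_, hyM⟩, hzz]
      rfl
    rw [← h2, conjAut_apply, thFun_conj θ hzS (hMS w.2)] at h1
    exact mul_left_cancel (mul_right_cancel h1))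
  have hxz : ∀ y : M, ((x y : M) : Ω) = (z * m) * (y : Ω) * (z * m)⁻¹ := fun y => by
    have h1 : x y = conjAut hzN (MulAut.conj m y) := by
      rw [show (MulAut.conj m : MulAut M) = (conjAut hzN)⁻¹ * x from hm, MulAut.mul_apply,
        MulAut.inv_apply, MulEquiv.apply_symm_apply]
    rw [h1, conjAut_apply]
    show z * ((m : Ω) * (y : Ω) * (m : Ω)⁻¹) * z⁻¹ = _
    group
  refine ⟨z * m, h.cen_self hQ (mul_mem (hMT (hQM hz)) (hMT m.2)) fun y hy => ?_,
    fun y _ => hxz y⟩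
  rw [← hxz ⟨y, hQM hy⟩]
  exact hker ⟨y, hQM hy⟩ hy

/-- A map extending an automorphism that transports a conjugation of `T` into `S` lands in `T`. -/
theorem conj_autT {Q : Subgroup Ω} (hQ : F.IsFullyNormalized Q) {c x : MulAut Q}
    (hc : c ∈ F.autGroup Q) (hx : x ∈ Cfsg.autInducedBy (preimageAlong θ T') Q)
    (hcx : c * x * c⁻¹ ∈ Cfsg.autInducedBy S Q) :
    c * x * c⁻¹ ∈ Cfsg.autInducedBy (preimageAlong θ T') Q := by
  obtain ⟨t, ht, hxt⟩ := mem_autInducedBy_iff.1 hx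
  have htN := mem_normalizer_of_aut hxt
  have htS := (mem_pre.1 ht).1
  have hφ := (mem_autGroup_iff F hQ.1).1 hc
  have hxc : x = conjAut htN := MulEquiv.ext fun y => Subtype.ext (hxt y)
  have hN : Q ⊔ Subgroup.zpowers t ≤ extender S Q (Q.subtype.comp c.toMonoidHom) :=
    sup_le (le_extender F hφ) (Subgroup.zpowers_le.2 (mem_extender_of_congr hφ
      (range_subtype_comp c) htS htN (by rw [congr_subtype_comp hφ, ← hxc]; exact hcx)))
  obtain ⟨ψ, hψ, hψe⟩ := exists_ext (fullyNormalized_props h.hS h.hF hQ).2 hφ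
    (range_subtype_comp c) le_sup_left hN
  obtain ⟨f, hf, hfe⟩ := exists_mor hψ
  have htM : t ∈ Q ⊔ Subgroup.zpowers t :=
    Subgroup.mem_sup_right (Subgroup.mem_zpowers t)
  refine mem_autInducedBy_iff.2 ⟨f t, h.mor_mem_T hf htM ht, fun y => ?_⟩
  obtain ⟨z, rfl⟩ := c.surjective y
  show ((c (x (c⁻¹ (c z))) : Q) : Ω) = _
  rw [MulAut.inv_apply_self]
  have e : ∀ w : Q, f w = ((c w : Q) : Ω) := fun w =>
    (hfe (Subgroup.inclusion le_sup_left w)).trans (hψe w)
  rw [← e, hxt, hf.map_conj htM (Subgroup.mem_sup_left z.2), e]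

theorem central_autT {Q : Subgroup Ω} (hQ : Cen θ Z E' Q) (hn : F.IsFullyNormalized Q)
    {b k : MulAut Q} (hb : b ∈ Cfsg.autInducedBy (preimageAlong θ T') Q)
    (hk : k ∈ F.autGroup Q ⊓ kerGroup θ Q) : b * k * b⁻¹ * k⁻¹ ∈ Cfsg.Inn Q := by
  have hbF : b ∈ F.autGroup Q :=
    autInducedBy_le_autGroup F hQ.2.1 (autInducedBy_mono (h.pre_le T') hb)
  obtain ⟨t, ht, hbt⟩ := mem_autInducedBy_iff.1 hb
  obtain ⟨u, hu, hku⟩ := mem_autInducedBy_iff.1 (h.ker_autS hQ.1 hn hk.1 hk.2)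
  refine h.autT_ker hQ (mem_autInducedBy_iff.2 ⟨t * (u * t⁻¹ * u⁻¹), ?_, fun y => ?_⟩)
    (mul_mem (h.ker_conj hQ.2.1 hbF hk).2 (inv_mem hk.2))
  · exact mul_mem ht (h.mor_mem_T (mor_conj (h.pre_le T') hu) (inv_mem ht) (inv_mem ht))
  · obtain ⟨z, rfl⟩ := k.surjective y
    obtain ⟨w, rfl⟩ := b.surjective z
    show ((b (k (b⁻¹ (k⁻¹ (k (b w))))) : Q) : Ω) = _
    rw [MulAut.inv_apply_self, MulAut.inv_apply_self, hbt, hku, hku, hbt]
    group

/-- The automizer of the pullback centralizes the kernel modulo inner automorphisms. -/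
theorem central {Q : Subgroup Ω} (hQ : Cen θ Z E' Q) (hn : F.IsFullyNormalized Q)
    (ih : ∀ M, Cen θ Z E' M → Nat.card Q < Nat.card M → MC h M) {a k : MulAut Q}
    (ha : a ∈ (pullSys h).autGroup Q) (hk : k ∈ F.autGroup Q ⊓ kerGroup θ Q) :
    a * k * a⁻¹ * k⁻¹ ∈ Cfsg.Inn Q := by
  classical
  have hQT := h.cen_le hQ
  have hQS := hQ.2.1
  have hn' := h.fn_im hQT hQ.1 hn
  have : Finite Q := finite_of_le hQS
  have := finite_mulAut Q
  have haF : ∀ {b : MulAut Q}, b ∈ (pullSys h).autGroup Q → b ∈ F.autGroup Q :=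
    fun hb => autGroup_mono h.pull_sub Q hb
  set N := centralAuts F θ Q with hN
  set A := ((pullSys h).autGroup Q).subgroupOf (F.autGroup Q) with hA
  have hAn : A.Normal := ⟨fun b hb c => h.pull_normal hQT c.2 hb⟩
  have hNn : N.Normal := by
    refine ⟨fun b hb c k' hk' => ?_⟩
    have h1 := hb _ (h.ker_conj hQS (inv_mem c.2) hk')
    have h2 := Subgroup.Normal.conj_mem (inn_normal Q) _ h1 (c : MulAut Q)
    simp only [Subgroup.coe_mul, Subgroup.coe_inv]
    convert h2 using 1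
    group
  -- the kernel centralizes itself
  have hKN : ∀ {b : F.autGroup Q}, (b : MulAut Q) ∈ kerGroup θ Q → b ∈ N := fun {b} hb k' hk' => by
    rw [h.ker_comm hQS ⟨b.2, hb⟩ hk']
    simp
  obtain ⟨⟨-, R, hR⟩, hrec⟩ := fullyNormalized_props h.hS h.hF hn
  have hSigma : (R : Subgroup (F.autGroup Q)) ⊓ A ≤ N := by
    rintro b ⟨hbR, hbA⟩
    change b ∈ (R : Subgroup (F.autGroup Q)) at hbR
    rw [hR] at hbR
    obtain ⟨t, ht, hker⟩ := h.sigma hQ hn' hbA hbR
    have htF : t ∈ F.autGroup Q :=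
      autInducedBy_le_autGroup F hQS (autInducedBy_mono (h.pre_le T') ht)
    have e : b = ⟨t, htF⟩ * ⟨t⁻¹ * b, mul_mem (inv_mem htF) b.2⟩ :=
      Subtype.ext (mul_inv_cancel_left t _).symm
    rw [e]
    exact mul_mem (fun k' hk' => h.central_autT hQ hn ht hk') (hKN hker)
  suffices hmain : A ≤ N from hmain (x := ⟨a, haF ha⟩) ha k hk
  have : (A ⊓ N).Normal := inferInstance
  obtain ⟨U, hU⟩ := exists_sylow_inter_normal R (A ⊓ N)
  have hUmap : (U : Subgroup ↥(A ⊓ N)).map (A ⊓ N).subtype =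
      (R : Subgroup (F.autGroup Q)) ⊓ A := by
    rw [hU, Subgroup.map_subgroupOf_eq_of_le inf_le_right]
    exact le_antisymm (inf_le_inf le_rfl inf_le_left)
      (le_inf inf_le_left (le_inf inf_le_right hSigma))
  have hnorm : ∀ b ∈ A, b ∈ Subgroup.normalizer
      (((R : Subgroup (F.autGroup Q)) ⊓ A : Subgroup (F.autGroup Q)) : Set (F.autGroup Q)) →
      b ∈ N := by
    intro b hbA hbn
    have := h.finite_T'
    have hbP : (b : MulAut Q) ∈ (pullSys h).autGroup Q := hbA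
    obtain ⟨fb, gb, hfb, hgb, hgbi, hfbe, hfbimg⟩ := h.pull_autGroup hQT hbP
    have hgbimg := h.img_red hgbi hQS hQS hfbimg
    -- it suffices to find a lift centralizing the kernel
    suffices hext : ∃ e : F.autGroup Q, e ∈ N ∧
        (e : MulAut Q)⁻¹ * (b : MulAut Q) ∈ kerGroup θ Q by
      obtain ⟨e, heN, hker⟩ := hext
      have e1 : b = e * (e⁻¹ * b) := (mul_inv_cancel_left e b).symm
      rw [e1]
      exact mul_mem heN (hKN (by simpa using hker))
    by_cases htop : Q = preimageAlong θ T'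
    · -- the extension condition
      obtain ⟨c', hc'⟩ := exists_aut_of_mor hgb hgbimg
      have himT : imageAlong θ Q = T' := by rw [htop, h.im_pre h.T'_le]
      obtain ⟨α, hα, hαe⟩ : ∃ α ∈ E'.autGroup T', ∀ y : T', ((α y : T') : Ω') = gb y := by
        have hg1 : Mor E' T' gb := himT ▸ hgb
        have hg2 : gb '' (T' : Set Ω') = T' := by rw [← himT]; exact hgbimg
        obtain ⟨α, hα⟩ := exists_aut_of_mor hg1 hg2
        exact ⟨α, α.2, hα⟩
      obtain ⟨β, hβ, hβT, hβC⟩ := h.hN.2 α hα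
      obtain ⟨gβ, hgβ, hgβe, hgβimg⟩ :=
        exists_mor_of_aut (sup_le h.T'_le (centralizerIn_le T')) ⟨β, hβ⟩
      obtain ⟨fβ, hfβ, hfβi⟩ := h.exists_lift hgβ
      have hTle : Q ≤ preimageAlong θ (T' ⊔ centralizerIn S' T') :=
        htop.le.trans (h.pre_mono le_sup_left)
      have hQim : fβ '' (Q : Set Ω) = Q := by
        have := finite_of_le hQS
        refine image_eq (hfβ.restrict hTle) fun x hx => ?_
        have hx' := h.mor_mem_T hfβ (hTle hx) (hQT hx)
        exact htop.symm ▸ hx'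
      obtain ⟨e, he⟩ := exists_aut_of_mor (hfβ.restrict hTle) hQim
      refine ⟨e, fun k' hk' => ?_, fun x => ?_⟩
      · obtain ⟨u, hu, hku⟩ := mem_autInducedBy_iff.1 (h.ker_autS hQ.1 hn hk'.1 hk'.2)
        have huC : thFun θ u ∈ centralizerIn S' T' := by
          refine ⟨h.th_mem hu, fun y hy => ?_⟩
          rw [← himT] at hy
          obtain ⟨x, hx, hxS, rfl⟩ := mem_im.1 hy
          have h1 := hk'.2 ⟨x, hx⟩
          rw [hku, thFun_conj θ hu hxS] at h1
          conv_lhs => rw [← h1]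
          group
        have huM : u ∈ preimageAlong θ (T' ⊔ centralizerIn S' T') :=
          mem_pre.2 ⟨hu, Subgroup.mem_sup_right huC⟩
        have hfuS := hfβ.mem huM
        have h2 : thFun θ (u⁻¹ * fβ u) ∈ T' ⊓ Subgroup.centralizer (T' : Set Ω') := by
          rw [thFun_mul θ (S.inv_mem hu) hfuS, thFun_inv θ hu, ← hfβi u huM]
          rw [hgβe ⟨_, Subgroup.mem_sup_right huC⟩]
          exact hβC ⟨_, Subgroup.mem_sup_right huC⟩ huC
        have hzS := S.mul_mem (S.inv_mem hu) hfuS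
        have hzQ : u⁻¹ * fβ u ∈ Q := htop ▸ mem_pre.2 ⟨hzS, h2.1⟩
        rw [inn_eq_autInducedBy_self]
        refine mem_autInducedBy_iff.2 ⟨u * (u⁻¹ * fβ u) * u⁻¹, ?_, fun y => ?_⟩
        · have huN : u ∈ Subgroup.normalizer (Q : Set Ω) := mem_normalizer_of_aut hku
          exact conj_mem_of_normalizer huN hzQ
        · obtain ⟨z, rfl⟩ := k'.surjective y
          obtain ⟨w, rfl⟩ := (e : MulAut Q).surjective z
          show (((e : MulAut Q) (k' ((e : MulAut Q)⁻¹ (k'⁻¹ (k' ((e : MulAut Q) w))))) : Q) : Ω) = _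
          rw [MulAut.inv_apply_self, MulAut.inv_apply_self, he, hku, hku, he,
            hfβ.map_conj huM (hTle w.2)]
          group
      · set y := (e : MulAut Q)⁻¹ ((b : MulAut Q) x) with hy
        have h2 : (e : MulAut Q) y = (b : MulAut Q) x := by
          rw [hy, MulAut.inv_apply, MulEquiv.apply_symm_apply]
        have h3 : ∀ w : Q, thFun θ (fβ w) = gb (thFun θ w) := fun w => by
          have hwT : thFun θ (w : Ω) ∈ T' := (mem_pre.1 (hQT w.2)).2
          rw [← hfβi w (hTle w.2), hgβe ⟨_, Subgroup.mem_sup_left hwT⟩]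
          exact (hβT ⟨_, hwT⟩).trans (hαe ⟨_, hwT⟩)
        have h4 := congrArg (fun v : Q => thFun θ (v : Ω)) h2
        rw [he, h3, ← hfbe, ← hgbi x x.2] at h4
        exact hgb.injOn (mem_im.2 ⟨y, y.2, hQS y.2, rfl⟩) (mem_im.2 ⟨x, x.2, hQS x.2, rfl⟩) h4
    · -- extend to the normalizer
      set M := normalizerIn (preimageAlong θ T') Q with hMdef
      have hTS := h.pre_le T'
      have hQM : Q ≤ M := le_normalizerIn hQT
      have hMT : M ≤ preimageAlong θ T' := normalizerIn_le Q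
      have hMS : M ≤ S := hMT.trans hTS
      have hMC' : Cen θ Z E' M := h.cen_mono hQ hQM hMT
      have : Finite (preimageAlong θ T') := finite_of_le hTS
      obtain ⟨g₀, hg₀, hg₀Q⟩ := exists_normalizing_not_mem (h.hS.to_le hTS) hQT htop
      have hlt : Nat.card Q < Nat.card M := card_lt_of_le_of_mem hMS hQM hg₀ hg₀Q
      have hQ'T := h.im_le_T hQT
      have hM'N : imageAlong θ M = normalizerIn T' (imageAlong θ Q) := by
        apply le_antisymm
        · intro y hy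
          obtain ⟨m, hm, hmS, rfl⟩ := mem_im.1 hy
          have : Finite (imageAlong θ Q) := finite_of_le hQ.2.2.1
          refine ⟨(mem_pre.1 (hMT hm)).2, Subgroup.mem_normalizer_fintype fun n hnn => ?_⟩
          obtain ⟨q, hq, hqS, rfl⟩ := mem_im.1 hnn
          exact mem_im.2 ⟨m * q * m⁻¹, conj_mem_of_normalizer hm.2 hq,
            hQS (conj_mem_of_normalizer hm.2 hq), thFun_conj θ hmS hqS⟩
        · intro y hy
          obtain ⟨m, hm, rfl⟩ := h.th_surj (h.T'_le hy.1)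
          exact mem_im.2 ⟨m, ⟨mem_pre.2 ⟨hm, hy.1⟩, h.normalizer_of_im hQS hQ.1 hm fun x hx =>
            conj_mem_of_normalizer hy.2 (mem_im.2 ⟨x, hx, hQS hx, rfl⟩)⟩, hm, rfl⟩
      have := h.finite_T'
      obtain ⟨τ, hτ, hτe⟩ := hgb.exists_ext hgbimg
        (fullyNormalized_props h.pgroup_T' h.hN.1.1 hn').2 (L := imageAlong θ M) (h.im_mono hQM)
        hM'N.le fun l hl => by
          obtain ⟨t, ht, htS, rfl⟩ := mem_im.1 hl
          set ct : F.autGroup Q := ⟨conjAut ht.2, autInducedBy_le_autGroup F hQS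
            (conjAut_mem_autInducedBy ht.2 htS)⟩ with hct
          have hctR : ct ∈ (R : Subgroup (F.autGroup Q)) ⊓ A := by
            refine ⟨?_, (autInducedBy_le_autGroup (pullSys h) hQT
              (conjAut_mem_autInducedBy ht.2 ht.1) : _)⟩
            show ct ∈ (R : Subgroup (F.autGroup Q))
            rw [hR]
            exact conjAut_mem_autInducedBy ht.2 htS
          have h1 := (Subgroup.mem_normalizer_iff.1 hbn ct).1 hctR
          have h1R : b * ct * b⁻¹ ∈ (R : Subgroup (F.autGroup Q)) := h1.1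
          rw [hR] at h1R
          obtain ⟨v, hv, hker⟩ := h.sigma hQ hn' (show ((b * ct * b⁻¹ : F.autGroup Q) : MulAut Q) ∈
            (pullSys h).autGroup Q from h1.2) h1R
          obtain ⟨t₂, ht₂, hvt⟩ := mem_autInducedBy_iff.1 hv
          obtain ⟨ht₂S, ht₂T⟩ := mem_pre.1 ht₂
          refine ⟨thFun θ t₂, ht₂T, fun y hy => ?_⟩
          obtain ⟨x, hx, hxS, rfl⟩ := mem_im.1 hy
          set w : Q := (b : MulAut Q) ⟨x, hx⟩ with hw
          have h5 : (b : MulAut Q) (conjAut ht.2 ⟨x, hx⟩) =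
              v ((v⁻¹ * ((b * ct * b⁻¹ : F.autGroup Q) : MulAut Q)) w) := by
            simp [hw, hct, MulAut.inv_apply]
          have h6 := congrArg (fun u : Q => thFun θ (u : Ω)) h5
          rw [← hfbe, ← hgbi _ (SetLike.coe_mem _), conjAut_apply, thFun_conj θ htS hxS,
            hvt, thFun_conj θ ht₂S (hQS (SetLike.coe_mem _)), hker w, hw, ← hfbe,
            ← hgbi x hx] at h6
          exact h6
      have hτimg : τ '' (imageAlong θ M : Set Ω') = imageAlong θ M := by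
        have : Finite (imageAlong θ M) := finite_of_le (h.im_le_T hMT)
        refine image_eq hτ fun y hy => ?_
        rw [hM'N] at hy ⊢
        refine (hτ.map_normalizer (h.im_mono hQM) (Q := imageAlong θ Q) (R := imageAlong θ Q) ?_
          (hM'N.ge hy) hy.2)
        exact (Set.image_congr fun x hx => hτe x hx).trans hgbimg
      obtain ⟨f, hf, hfi⟩ := h.exists_lift_E hτ
      rw [h.pre_im hMS hMC'.1] at hf hfi
      have hfimg := h.img_pre (mor_of_sub h.lift_sub hf) hMC'.1 hfi hτimg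
      rw [h.pre_im hMS hMC'.1] at hfimg
      obtain ⟨eM, heM⟩ := exists_aut_of_mor hf hfimg
      have hfQ : ∀ x ∈ Q, thFun θ (f x) = gb (thFun θ x) := fun x hx => by
        rw [← hfi x (hQM hx), hτe _ (mem_im.2 ⟨x, hx, hQS hx, rfl⟩)]
      have hfQimg : f '' (Q : Set Ω) = Q := by
        have := h.img_pre ((mor_of_sub h.lift_sub hf).restrict hQM) hQ.1
          (g := gb) (fun x hx => (hfQ x hx).symm) hgbimg
        rwa [h.pre_im hQS hQ.1] at this
      obtain ⟨e, he⟩ := exists_aut_of_mor ((mor_of_sub h.lift_sub hf).restrict hQM) hfQimg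
      refine ⟨e, fun k' hk' => ?_, fun x => ?_⟩
      · obtain ⟨u, hu, hku⟩ := mem_autInducedBy_iff.1 (h.ker_autS hQ.1 hn hk'.1 hk'.2)
        have huQ : u ∈ Subgroup.normalizer (Q : Set Ω) := mem_normalizer_of_aut hku
        have : Finite M := finite_of_le hMS
        have huM : u ∈ Subgroup.normalizer (M : Set Ω) := by
          refine Subgroup.mem_normalizer_fintype fun m hm => ?_
          exact ⟨h.mor_mem_T (mor_conj hTS hu) hm.1 hm.1,
            Subgroup.mul_mem _ (Subgroup.mul_mem _ huQ hm.2) (Subgroup.inv_mem _ huQ)⟩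
        set cu : MulAut M := conjAut huM with hcu
        have hcuF : cu ∈ F.autGroup M :=
          autInducedBy_le_autGroup F hMS (conjAut_mem_autInducedBy huM hu)
        have hmul : cu * (eM : MulAut M)⁻¹ * cu⁻¹ ∈ (liftSys h).autGroup M :=
          h.lift_normal hMT hcuF (Subgroup.inv_mem _ eM.2)
        have hval : ∀ y : Q,
            ((((eM : MulAut M) * (cu * (eM : MulAut M)⁻¹ * cu⁻¹))
              (Subgroup.inclusion hQM y) : M) : Ω) =
            ((((e : MulAut Q) * k' * (e : MulAut Q)⁻¹ * k'⁻¹) y : Q) : Ω) := by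
          intro y
          obtain ⟨z, rfl⟩ := k'.surjective y
          obtain ⟨w, rfl⟩ := (e : MulAut Q).surjective z
          have i1 : Subgroup.inclusion hQM (k' ((e : MulAut Q) w)) =
              cu ((eM : MulAut M) (Subgroup.inclusion hQM w)) := by
            refine Subtype.ext ?_
            show ((k' ((e : MulAut Q) w) : Q) : Ω) = _
            rw [hku, he, hcu, conjAut_apply, heM]
            rfl
          have i2 : cu (Subgroup.inclusion hQM w) = Subgroup.inclusion hQM (k' w) := by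
            refine Subtype.ext ?_
            show _ = ((k' w : Q) : Ω)
            rw [hku, hcu, conjAut_apply]
            rfl
          rw [i1]
          simp only [MulAut.mul_apply, MulAut.inv_apply_self]
          rw [i2, heM, he]
          rfl
        obtain ⟨q, hq, hqe⟩ := h.restrict_inn hQ hQM le_rfl (ih M hMC' hlt)
          (Subgroup.mul_mem _ eM.2 hmul) (fun y hy => by
            have h1 := hval ⟨y, hy⟩
            have e1 : Subgroup.inclusion hQM ⟨(y : Ω), hy⟩ = y := Subtype.ext rfl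
            rw [e1] at h1
            rw [h1]
            exact mul_mem (h.ker_conj hQS e.2 hk').2 (Subgroup.inv_mem _ hk'.2) ⟨y, hy⟩)
        rw [inn_eq_autInducedBy_self]
        refine mem_autInducedBy_iff.2 ⟨q, hq, fun y => ?_⟩
        rw [← hval y]
        exact hqe _ y.2
      · set y := (e : MulAut Q)⁻¹ ((b : MulAut Q) x) with hy
        have h2 : (e : MulAut Q) y = (b : MulAut Q) x := by
          rw [hy, MulAut.inv_apply, MulEquiv.apply_symm_apply]
        have h4 := congrArg (fun v : Q => thFun θ (v : Ω)) h2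
        rw [he, hfQ y y.2, ← hfbe, ← hgbi x x.2] at h4
        exact hgb.injOn (mem_im.2 ⟨y, y.2, hQS y.2, rfl⟩) (mem_im.2 ⟨x, x.2, hQS x.2, rfl⟩) h4
  intro b hb
  have htop := Sylow.normalizer_sup_eq_top U
  rw [hUmap] at htop
  obtain ⟨b₁, hb₁, n, hn₁, hbn⟩ := Subgroup.mem_sup_of_normal_right.1
    (htop.symm ▸ Subgroup.mem_top b)
  have hb₁A : b₁ ∈ A := by
    rw [← mul_inv_cancel_right b₁ n, hbn]
    exact mul_mem hb (Subgroup.inv_mem _ hn₁.1)
  rw [← hbn]
  exact mul_mem (hnorm b₁ hb₁A hb₁) hn₁.2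

end Setup

end CfsgLib.CentralLift
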