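import Cfsg.Agent.Fus.CentralLift.Generation

/-!
The generated system is saturated, hence a weakly normal subsystem that covers the given normal
subsystem of the central factor system.
-/

set_option autoImplicit false
set_option linter.unusedSectionVars false

namespace CfsgLib.CentralLift

open Cfsg Cfsg.FusionSystem CfsgLib.Fus CfsgLib.Fusion.Alperin CfsgLib.NormalCent

variable {Ω : Type*} [Group Ω] {S : Subgroup Ω} {Ω' : Type*} [Group Ω'] {S' T' : Subgroup Ω'}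
  {p : ℕ} {F : Cfsg.FusionSystem S} {Z : Subgroup Ω} {θ : S →* Ω'}
  {F' : Cfsg.FusionSystem S'} {E' : Cfsg.FusionSystem T'}

namespace Setup

variable (h : Setup p F Z θ F' E') [Finite S] [Fact p.Prime]

include h

/-- The automizer at a subgroup with fully normalized centric image. -/
theorem lift_fullyAutomized {Q : Subgroup Ω} (hQ : Cen θ Z E' Q)
    (hn : E'.IsFullyNormalized (imageAlong θ Q)) : (liftSys h).IsFullyAutomized p Q := by
  classical
  have hQT := h.cen_le hQ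
  have hQS := hQ.2.1
  have := h.finite_T'
  have : Finite Q := finite_of_le hQS
  have := finite_mulAut Q
  set Q' := imageAlong θ Q with hQ'
  have : Finite Q' := finite_of_le hQ.2.2.1
  have := finite_mulAut Q'
  have hm : ∀ x : Q, thFun θ (x : Ω) ∈ Q' := fun x => mem_im.2 ⟨x, x.2, hQS x.2, rfl⟩
  have key : ∀ a : (liftSys h).autGroup Q, ∃ b : E'.autGroup Q', ∀ x : Q,
      (((b : MulAut Q') ⟨thFun θ x, hm x⟩ : Q') : Ω') =
        thFun θ (((a : MulAut Q) x : Q) : Ω) := by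
    intro a
    obtain ⟨f, g, hf, hg, hgi, hfe, himg⟩ :=
      h.pull_autGroup hQT (autGroup_mono h.lift_sub_pull Q a.2)
    obtain ⟨b, hb⟩ := exists_aut_of_mor hg (h.img_red hgi hQS hQS himg)
    refine ⟨b, fun x => (hb _).trans ((hgi x x.2).trans ?_)⟩
    rw [hfe]
  choose π hπ using key
  let πh : (liftSys h).autGroup Q →* E'.autGroup Q' :=
    MonoidHom.mk' π fun a a' => Subtype.ext (MulEquiv.ext fun y => by
      obtain ⟨y, hy⟩ := y
      obtain ⟨x, hx, -, rfl⟩ := mem_im.1 hy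
      refine Subtype.ext ((hπ (a * a') ⟨x, hx⟩).trans ?_)
      show _ = (((π a : MulAut Q') ((π a' : MulAut Q') ⟨thFun θ x, hm ⟨x, hx⟩⟩) : Q') : Ω')
      have e : (π a' : MulAut Q') ⟨thFun θ x, hm ⟨x, hx⟩⟩ =
          ⟨thFun θ (((a' : MulAut Q) ⟨x, hx⟩ : Q) : Ω), hm _⟩ := Subtype.ext (hπ a' ⟨x, hx⟩)
      rw [e, hπ a]
      rfl)
  obtain ⟨-, P, hP⟩ := (fullyNormalized_props h.pgroup_T' h.hN.1.1 hn).1
  have hTS := h.pre_le T'
  set AT := (Cfsg.autInducedBy (preimageAlong θ T') Q).subgroupOf ((liftSys h).autGroup Q) with hAT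
  have hATp : IsPGroup p AT :=
    (isPGroup_autInducedBy (h.hS.to_le hTS) Q).comap_subtype
  obtain ⟨X, hX⟩ := hATp.exists_le_sylow
  refine ⟨hQT, X, le_antisymm (fun x hx => ?_) hX⟩
  have hnorm : ∀ {t : Ω}, t ∈ S → ∀ {b : MulAut Q'}, (∀ y : Q', ((b y : Q') : Ω') =
      thFun θ t * y * (thFun θ t)⁻¹) → t ∈ Subgroup.normalizer (Q : Set Ω) := by
    intro t ht b hb
    refine h.normalizer_of_im hQS hQ.1 ht fun z hz => ?_
    rw [← hb ⟨_, hm ⟨z, hz⟩⟩]
    exact SetLike.coe_mem _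
  have hPX : (P : Subgroup (E'.autGroup Q')) ≤ (X : Subgroup _).map πh := by
    rw [hP]
    intro b hb
    obtain ⟨t', ht', hbt⟩ := mem_autInducedBy_iff.1 (Subgroup.mem_subgroupOf.1 hb)
    obtain ⟨t, ht, rfl⟩ := h.th_surj (h.T'_le ht')
    have htN := hnorm ht hbt
    have htT : t ∈ preimageAlong θ T' := mem_pre.2 ⟨ht, ht'⟩
    refine ⟨⟨conjAut htN, h.autT_le_lift hQT (conjAut_mem_autInducedBy htN htT)⟩,
      hX (conjAut_mem_autInducedBy htN htT), Subtype.ext (MulEquiv.ext fun y => ?_)⟩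
    obtain ⟨y, hy⟩ := y
    obtain ⟨z, hz, hzS, rfl⟩ := mem_im.1 hy
    refine Subtype.ext ((hπ _ ⟨z, hz⟩).trans ?_)
    rw [hbt]
    show thFun θ ((conjAut htN ⟨z, hz⟩ : Q) : Ω) = _
    rw [conjAut_apply, thFun_conj θ ht hzS]
  have hπx : πh x ∈ (P : Subgroup (E'.autGroup Q')) := by
    rw [← P.is_maximal' (X.isPGroup'.map πh) hPX]
    exact ⟨x, hx, rfl⟩
  rw [hP] at hπx
  obtain ⟨t', ht', hbt⟩ := mem_autInducedBy_iff.1 (Subgroup.mem_subgroupOf.1 hπx)
  obtain ⟨t, ht, rfl⟩ := h.th_surj (h.T'_le ht')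
  have htN := hnorm ht hbt
  have htT : t ∈ preimageAlong θ T' := mem_pre.2 ⟨ht, ht'⟩
  have hAmem := conjAut_mem_autInducedBy htN htT
  set k : MulAut Q := (conjAut htN)⁻¹ * (x : MulAut Q) with hk
  have hkker : k ∈ kerGroup θ Q := fun z => by
    have h1 : thFun θ (((x : MulAut Q) z : Q) : Ω) = thFun θ t * thFun θ z * (thFun θ t)⁻¹ :=
      (hπ x z).symm.trans (hbt ⟨_, hm z⟩)
    have h2 : conjAut htN (k z) = (x : MulAut Q) z := by
      rw [hk, MulAut.mul_apply, MulAut.inv_apply, MulEquiv.apply_symm_apply]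
    rw [← h2, conjAut_apply, thFun_conj θ ht (hQS (k z).2)] at h1
    exact mul_left_cancel (mul_right_cancel h1)
  have hinn := h.mc_all hQ k
    (Subgroup.mul_mem _ (Subgroup.inv_mem _ (h.autT_le_lift hQT hAmem)) x.2) hkker
  rw [inn_eq_autInducedBy_self] at hinn
  have := Subgroup.mul_mem _ hAmem (autInducedBy_mono hQT hinn)
  rw [hk, mul_inv_cancel_left] at this
  exact this

/-- A subgroup with fully normalized centric image is receptive. -/
theorem lift_receptive {Q : Subgroup Ω} (hQ : Cen θ Z E' Q)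
    (hn : E'.IsFullyNormalized (imageAlong θ Q)) : (liftSys h).IsReceptive Q := by
  classical
  have hQT := h.cen_le hQ
  have hQS := hQ.2.1
  have hTS := h.pre_le T'
  have := h.finite_T'
  refine ⟨hQT, fun R φ hφ hr => ?_⟩
  obtain ⟨f, hf, hfe⟩ := exists_mor hφ
  have hRT : R ≤ preimageAlong θ T' := hom_le _ hφ
  have hRS := hRT.trans hTS
  have hfimg : f '' (R : Set Ω) = Q := by
    rw [← hr]
    ext y
    constructor
    · rintro ⟨x, hx, rfl⟩; exact ⟨⟨x, hx⟩, (hfe _).symm⟩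
    · rintro ⟨x, rfl⟩; exact ⟨x, x.2, hfe x⟩
  obtain ⟨fi, hfi, -, -, hfiimg⟩ := hf.exists_inv hfimg
  have hR := h.cen_img hQ (mor_of_sub h.lift_sub hfi) hfiimg
  obtain ⟨hfF, g, hg, hgi⟩ := h.mor_pull_iff.1 (mor_of_sub h.lift_sub_pull hf)
  have hgimg := h.img_red hgi hRS hQS hfimg
  obtain ⟨φ', hφ', hφ'e⟩ := hg
  have hrange : φ'.range = imageAlong θ Q := SetLike.coe_injective (by
    rw [← hgimg]
    ext y
    constructor
    · rintro ⟨x, rfl⟩; exact ⟨x, x.2, (hφ'e x).symm⟩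
    · rintro ⟨x, hx, rfl⟩; exact ⟨⟨x, hx⟩, hφ'e _⟩)
  have hNE : extender (preimageAlong θ T') R φ ≤
      preimageAlong θ (extender T' (imageAlong θ R) φ') := by
    intro x hx
    obtain ⟨hxT, hxN, k, hk, hke⟩ := mem_extender_iff.1 hx
    obtain ⟨hxS, hxT'⟩ := mem_pre.1 hxT
    obtain ⟨hkS, hkT'⟩ := mem_pre.1 hk
    have : Finite (imageAlong θ R) := finite_of_le (h.im_le_T hRT)
    refine mem_pre.2 ⟨hxS, mem_extender_iff.2 ⟨hxT', ?_, thFun θ k, hkT', ?_⟩⟩
    · refine Subgroup.mem_normalizer_fintype fun n hn => ?_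
      obtain ⟨z, hz, hzS, rfl⟩ := mem_im.1 hn
      exact mem_im.2 ⟨x * z * x⁻¹, conj_mem_of_normalizer hxN hz,
        hRS (conj_mem_of_normalizer hxN hz), thFun_conj θ hxS hzS⟩
    · rintro ⟨y, hy⟩ hy'
      obtain ⟨z, hz, hzS, rfl⟩ := mem_im.1 hy
      have hxz := conj_mem_of_normalizer hxN hz
      rw [hφ'e, hφ'e]
      show g (thFun θ x * thFun θ z * (thFun θ x)⁻¹) =
        thFun θ k * g (thFun θ z) * (thFun θ k)⁻¹
      rw [← thFun_conj θ hxS hzS, hgi _ hxz, hgi z hz,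
        ← thFun_conj θ hkS (hTS (hf.mem hz))]
      refine congrArg (thFun θ) ?_
      exact (hfe ⟨_, hxz⟩).trans ((hke ⟨z, hz⟩ hxz).trans
        (congrArg (fun y => k * y * k⁻¹) (hfe ⟨z, hz⟩).symm))
  have hRN : R ≤ extender (preimageAlong θ T') R φ := le_extender _ hφ
  obtain ⟨ψ', hψ', hψ'e⟩ :=
    (fullyNormalized_props h.pgroup_T' h.hN.1.1 hn).2.2 (imageAlong θ R) φ' hφ' hrange
  obtain ⟨k', hk', hk'e⟩ := exists_mor hψ'
  obtain ⟨k, hk, hki⟩ := h.exists_lift_E hk'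
  have hkN := hk.restrict hNE
  have hind : Ind θ R k g := fun x hx => by
    have hxm : thFun θ x ∈ imageAlong θ R := mem_im.2 ⟨x, hx, hRS hx, rfl⟩
    have hxE : thFun θ x ∈ extender T' (imageAlong θ R) φ' := le_extender _ hφ' hxm
    rw [← hki x (hNE (hRN hx))]
    exact ((hk'e ⟨_, hxE⟩).trans ((hψ'e _ hxm hxE).trans (hφ'e ⟨_, hxm⟩))).symm
  have hkR := hkN.restrict hRN
  have hkimg := h.img_pre (mor_of_sub h.lift_sub hkR) hR.1 hind hgimg
  rw [h.pre_im hQS hQ.1] at hkimg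
  obtain ⟨ki, hki', hkil, hkir, hkiimg⟩ := hkR.exists_inv hkimg
  have hkim : ∀ y ∈ Q, ki y ∈ R := fun y hy => by
    show _ ∈ (R : Set Ω); rw [← hkiimg]; exact ⟨y, hy, rfl⟩
  obtain ⟨a, ha, hae⟩ := mor_aut_apply (hki'.comp hf hkim) (by
    rw [Set.image_comp, hkiimg, hfimg])
  have hker : a ∈ kerGroup θ Q := fun y => by
    rw [hae]
    show thFun θ (f (ki y)) = _
    rw [← hgi _ (hkim y y.2), hind _ (hkim y y.2), hkir y y.2]
  obtain ⟨q, hq⟩ := h.mc_all hQ a ha hker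
  obtain ⟨ψ, hψ, hψe⟩ := hkN.comp (mor_conj (F := liftSys h) le_rfl (hQT q.2))
    fun x hx => hkN.mem hx
  refine ⟨ψ, hψ, fun x hx hx' => ?_⟩
  rw [hψe]
  show (q : Ω) * k x * (q : Ω)⁻¹ = _
  have hkx : k x ∈ Q := by
    show _ ∈ (Q : Set Ω); rw [← hkimg]; exact ⟨x, hx, rfl⟩
  have h1 : (q : Ω) * k x * (q : Ω)⁻¹ = f (ki (k x)) := by
    refine Eq.trans ?_ (hae ⟨k x, hkx⟩)
    rw [← hq]
    rfl
  rw [h1, hkil x hx]
  exact hfe ⟨x, hx⟩

/-- The generated system is saturated. -/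
theorem lift_saturated : (liftSys h).IsSaturated p := by
  classical
  have hTS := h.pre_le T'
  have : Finite (preimageAlong θ T') := finite_of_le hTS
  have := h.finite_T'
  refine Generated.isSaturated_of_generated (F := liftSys h) (h.hS.to_le hTS)
    (ℋ := {M | Cen θ Z E' M}) (fun P hP Q hPQ => ?_) (fun P hP => ?_) (fun G hG => ?_)
    (fun P hP hPℋ => ?_)
  · obtain ⟨f, hf, hfimg⟩ := exists_mor_of_isConj hPQ
    exact h.cen_img hP (mor_of_sub h.lift_sub hf) hfimg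
  · obtain ⟨R', hPR, hR'⟩ := exists_fullyNormalized E' hP.2.2.1
    obtain ⟨g, hg, hgimg⟩ := exists_mor_of_isConj hPR
    obtain ⟨f, hf, hfi⟩ := h.exists_lift_E hg
    rw [h.pre_im hP.2.1 hP.1] at hf hfi
    have hfimg := h.img_pre (mor_of_sub h.lift_sub hf) hP.1 hfi hgimg
    have hQ := h.cen_img hP (mor_of_sub h.lift_sub hf) hfimg
    have hn : E'.IsFullyNormalized (imageAlong θ (preimageAlong θ R')) := by
      rwa [h.im_pre (hR'.1.trans h.T'_le)]
    exact ⟨_, hf.isConj hfimg, h.lift_fullyAutomized hQ hn, h.lift_receptive hQ hn⟩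
  · exact h.lift_le fun M hM a ha hp => hG M hM (h.hasGens_lift M hM a ha hp)
  · have hPT : P ≤ preimageAlong θ T' := hP.1
    have hPS := hPT.trans hTS
    have hZP : Z ≤ P := fun z hz => centralizerIn_le_of_centric hP
      ⟨h.Z_le_pre T' hz, fun y hy => h.comm hz (hPS hy)⟩
    obtain ⟨W, hW, hne⟩ : ∃ W, E'.IsConj (imageAlong θ P) W ∧ ¬ centralizerIn T' W ≤ W := by
      by_contra hc
      exact hPℋ ⟨hZP, hPS, h.im_le_T hPT, fun W hW => not_not.1 fun hn => hc ⟨W, hW, hn⟩⟩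
    obtain ⟨c, hc, hcW⟩ := SetLike.not_le_iff_exists.1 hne
    obtain ⟨g, hg, hgimg⟩ := exists_mor_of_isConj hW
    obtain ⟨f, hf, hfi⟩ := h.exists_lift_E hg
    rw [h.pre_im hPS hZP] at hf hfi
    have hfimg := h.img_pre (mor_of_sub h.lift_sub hf) hZP hfi hgimg
    have hWT : W ≤ T' := isConj_le_right hW
    set P₁ := preimageAlong θ W with hP₁
    have hP₁T : P₁ ≤ preimageAlong θ T' := h.pre_mono hWT
    have hP₁S := hP₁T.trans hTS
    refine ⟨P₁, hf.isConj hfimg, fun hle => ?_⟩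
    obtain ⟨t, ht, rfl⟩ := h.th_surj (h.T'_le hc.1)
    have htT : t ∈ preimageAlong θ T' := mem_pre.2 ⟨ht, hc.1⟩
    have htriv : ∀ z ∈ P₁, thFun θ t * thFun θ z * (thFun θ t)⁻¹ = thFun θ z := fun z hz => by
      have h1 : thFun θ z * thFun θ t = thFun θ t * thFun θ z := hc.2 _ (mem_pre.1 hz).2
      rw [← h1, mul_inv_cancel_right]
    have htN : t ∈ Subgroup.normalizer (P₁ : Set Ω) := by
      refine h.normalizer_of_im hP₁S (h.Z_le_pre W) ht fun z hz => ?_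
      rw [htriv z hz]
      exact mem_im.2 ⟨z, hz, hP₁S hz, rfl⟩
    have hker : IsKer θ (conjAut htN) := fun z => by
      rw [conjAut_apply, thFun_conj θ ht (hP₁S z.2)]
      exact htriv z z.2
    have hA := conjAut_mem_autInducedBy htN htT
    obtain ⟨⟨x, hx⟩, hxe⟩ := hle ⟨hA, ⟨⟨_, h.autT_le_lift hP₁T hA⟩,
      h.ker_pCore (h.Z_le_pre W) hP₁S _ (autGroup_mono h.lift_sub P₁) hker, rfl⟩⟩
    have hcen : x⁻¹ * t ∈ centralizerIn (preimageAlong θ T') P₁ := by
      refine ⟨mul_mem (Subgroup.inv_mem _ (hP₁T hx)) htT, fun y hy => ?_⟩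
      have h1 : x * y * x⁻¹ = t * y * t⁻¹ := by
        have := congrArg (fun a : MulAut P₁ => ((a ⟨y, hy⟩ : P₁) : Ω)) hxe
        exact this
      calc y * (x⁻¹ * t) = x⁻¹ * (x * y * x⁻¹) * t := by group
        _ = x⁻¹ * (t * y * t⁻¹) * t := by rw [h1]
        _ = x⁻¹ * t * y := by group
    have hxt : x⁻¹ * t ∈ P₁ := hP.2 P₁ (hf.isConj hfimg) hcen
    have htP₁ := P₁.mul_mem hx hxt
    rw [mul_inv_cancel_left] at htP₁
    exact hcW (mem_pre.1 htP₁).2

/-- The generated system is weakly normal. -/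
theorem lift_weaklyNormal : (liftSys h).IsWeaklyNormalIn F p :=
  ⟨h.lift_saturated, h.hF, h.lift_invariant⟩

end Setup

end CfsgLib.CentralLift
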